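import Cfsg.Agent.BZ.L.B3.LatS_m3
import Cfsg.Agent.RC.A.Tw_mg_m3
import Cfsg.Agent.ChevFast.E6
import Cfsg.Agent.ChevFast.Lin
import Cfsg.Agent.BZ.E2.Defs_m3
import Cfsg.Agent.KZ.DatX.Main_m3
import Cfsg.Agent.BZ.T.Count_m3
import Cfsg.Agent.TAB.F42.Tab
import Cfsg.Agent.H447.CTabLam_m3
import Cfsg.Agent.H679.OneNonlin
import Cfsg.Agent.BZ.X.F42D
import Cfsg.Agent.BZ.C7.Chr_m3
import Cfsg.Agent.H65.F4T.Mult
import Cfsg.Agent.H671.KGV.Lift
import Cfsg.Agent.TAB.F42.G.Main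
import Cfsg.Agent.TAB.F42.G.Out
import Cfsg.Agent.Lib.FinFast
import Cfsg.Agent.BZ.C5.Eng_m3
import Cfsg.Agent.BZ.X.S62_m3
import Cfsg.Agent.BZ.L.K3.Defs3_m3
import Cfsg.Agent.BZ.L.W1_m3
import Cfsg.Agent.BZ.A.Desc_m3
import Cfsg.Agent.RC.B.Ty_m3
import Cfsg.Agent.BZ.L.K3.E6C_m3
import Cfsg.Agent.BZ.S1.Cert_m3
import Cfsg.Agent.S0908
import Cfsg.Agent.BZ.A.Deg2_m3
import Cfsg.Agent.BZ.X.One_m3
import Cfsg.Agent.BH.PB_m3
import Cfsg.Agent.BZ.X.All_m3
import Cfsg.Agent.BZ.L.TA.Dat_m3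
import Cfsg.Agent.BZ.L.TA.KAll_m3
import Cfsg.Agent.FastGrp
import Cfsg.Agent.Prune
set_option linter.all false

section
prune_inst 0x7f00000000000000000000000000000000000000000000000000000000000000000000000000000000000000000000000000000000000000000000000000000000000000000000000000000000000000003fffffffffffffffffffffffffffbeffbdffffffff

-- part: BZ/L/K3/E6S
section
set_option linter.all false
open scoped Cfsg.Agent.FastGrp

/-!
# BZ / L / K3 : the lattice lemma for `E₆` in the split case (helper98)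

`E6S.split` : `A = ± 1` gives the case A or the case B.
-/

set_option autoImplicit false
set_option linter.unusedSectionVars false
set_option maxHeartbeats 400000

namespace Cfsg.Agent.BZ.K3.E6S

open Cfsg Cfsg.Lie Subgroup Matrix Cfsg.Agent.DL Cfsg.Agent.KM Cfsg.Agent.KM.Tor Cfsg.Agent.KZ.DatX Cfsg.Agent.Nodes.RGDChev
  Cfsg.Agent.Tits.Roots Cfsg.Agent.ChevalleyStructure.CoxeterGeomTypes Cfsg.Agent.BZ.K3.E6C Cfsg.Agent.RC.B
open Cfsg.Agent.TO.X.Cn (Pi1)
open Cfsg.Agent.H931.KC (hr)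

/-- the coordinates -/
def tv (x : Fin 6 → ℤ) : V := ⟨x 0, x 1, x 2, x 3, x 4, x 5⟩

theorem tv_inj {x y : Fin 6 → ℤ} (h : tv x = tv y) : x = y := by
  simp only [tv, V.mk.injEq] at h
  funext i
  fin_cases i
  exacts [h.1, h.2.1, h.2.2.1, h.2.2.2.1, h.2.2.2.2.1, h.2.2.2.2.2]

theorem car : ∀ i j, cartanOf chevE6 6 i j =
    ![![2, 0, -1, 0, 0, 0], ![0, 2, 0, -1, 0, 0], ![-1, 0, 2, -1, 0, 0], ![0, -1, -1, 2, -1, 0], ![0, 0, 0, -1, 2, -1],
      ![0, 0, 0, 0, -1, 2]] i j := by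
  (delta Cfsg.Agent.ChevalleyStructure.CoxeterGeomTypes.cartanOf; rewrite [Cfsg.Agent.ChevFast.E6.cartan]; decide +kernel)

theorem fm_tv (x y : Fin 6 → ℤ) : fm (tv x) (tv y) = x ⬝ᵥ co chevE6 6 y := by
  simp [fm, tv, dotProduct, co, car, Fin.sum_univ_six]
  ring

theorem vec_RL : (∀ s : Fin chevE6.nroots, tv (vec chevE6 6 s) ∈ RL) ∧ (∀ x ∈ RL, ∃ s : Fin chevE6.nroots, tv (vec chevE6 6 s) = x) ∧
    tv (hr chevE6 6) = th ∧ tv (-sr 1) = nb ∧ tv (hr chevE6 6 + -sr 1) = b0 ∧ tv (-hr chevE6 6) = ng th ∧ tv (- -sr 1) = ng nb ∧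
    tv (-(hr chevE6 6 + -sr 1)) = ng b0 ∧ id6 = ⟨tv (sr 0), tv (sr 1), tv (sr 2), tv (sr 3), tv (sr 4), tv (sr 5)⟩ := by
  (open scoped Cfsg.Agent.ChevFast.Lin in decide +kernel)

theorem three : ∀ i : ZMod 3, i = 0 ∨ i = 1 ∨ i = 2 := by decide

theorem exists_three {W : Type} [Group W] {g : W} (h : g ≠ 1) {j : ℕ} (hj : g ^ 3 ^ j = 1) : ∃ i : ℕ, g ^ i ≠ 1 ∧ (g ^ i) ^ 3 = 1 := by
  induction j with
  | zero => exact absurd (by simpa using hj) h
  | succ j ih =>
    by_cases e : g ^ 3 ^ j = 1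
    · exact ih e
    · exact ⟨_, e, by rw [← pow_mul, ← pow_succ, hj]⟩

variable {p : ℕ} [Fact p.Prime] {k : Type} [Field k] [CharP k p] {Y : Type} [Group Y] {N : Type} [Fintype N]
  [DecidableEq N] {ρ : Y →* GL N k} {F : MulAut Y} {G : Subgroup Y} [IsAlgClosed k] {X : Datum p ρ F G}
  {Mx : Matrix (Fin 6) (Fin 6) ℤ} {X₀ : XF hpE6 p k Mx} (K : Kit X X₀) {a b : X.I → ℤ} {g : X.W} {d : ℕ} {Q ε : ℤ}
  {A : Matrix X.R X.R ℤ} {Γ : Subgroup X.W}

/-- the coordinates of a root -/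
noncomputable def ev (a : X.I → ℤ) : V := tv (K.e a)

theorem ev_inj (h : ev K a = ev K b) : a = b := K.e.injective (tv_inj h)

theorem rl (ha : X.Rt a) : ev K a ∈ RL := K.forall_rt (Q := fun x => tv x ∈ RL) vec_RL.1 ha

theorem of_rl {x : V} (hx : x ∈ RL) : ∃ a, X.Rt a ∧ ev K a = x :=
  let ⟨s, hs⟩ := vec_RL.2.1 x hx
  ⟨_, K.rt_vec s, by rw [ev, AddEquiv.apply_symm_apply, hs]⟩

theorem fm_ev (a : X.I → ℤ) (hb : X.Rt b) : fm (ev K a) (ev K b) = X.wt a ⬝ᵥ X.cor b := (fm_tv _ _).trans (K.wt_cor a hb).symm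

include K in
theorem pr_comm (ha : X.Rt a) (hb : X.Rt b) : X.wt a ⬝ᵥ X.cor b = X.wt b ⬝ᵥ X.cor a := by
  rw [← fm_ev K a hb, ← fm_ev K b ha, fm_comm]

/-- the matrix of an element of the Weyl group -/
noncomputable def mt (w : X.W) : Mt :=
  ⟨ev K (X.act w (K.e.symm (sr 0))), ev K (X.act w (K.e.symm (sr 1))), ev K (X.act w (K.e.symm (sr 2))),
    ev K (X.act w (K.e.symm (sr 3))), ev K (X.act w (K.e.symm (sr 4))), ev K (X.act w (K.e.symm (sr 5)))⟩

theorem ap_mt (w : X.W) (a : X.I → ℤ) : ap (mt K w) (ev K a) = ev K (X.act w a) := by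
  obtain ⟨x, rfl⟩ := K.e.symm.surjective a
  have h : K.e (X.act w (K.e.symm x)) = ∑ i, x i • K.e (X.act w (K.e.symm (sr i))) := by
    conv_lhs => rw [sum_sr x]
    simp only [Datum.act, map_sum, map_zsmul]
  simp only [ev, tv, mt, ap, cb, h, Fin.sum_univ_six, Pi.add_apply, Pi.smul_apply, smul_eq_mul, AddEquiv.apply_symm_apply]

theorem mt_mul (u v : X.W) : mt K (u * v) = ml (mt K u) (mt K v) := by
  rw [ml]
  simp only [mt.eq_1 K v, ap_mt, ← act_mul']
  rfl

theorem mt_one : mt K 1 = id6 := by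
  rw [vec_RL.2.2.2.2.2.2.2.2]
  simp only [mt, ev, Kit.act_one', AddEquiv.apply_symm_apply]

theorem eq_one (h : mt K g = id6) : g = 1 := X.act_eq_one fun i => ev_inj K (by
  rw [← ap_mt, h, ← mt_one K, ap_mt, Kit.act_one'])

theorem mt_cu (w : X.W) : cu (mt K w) = mt K (w ^ 3) := by rw [cu, ← mt_mul, ← mt_mul, pow_three]

theorem iso (w : X.W) : E6C.Iso (mt K w) := by
  refine ⟨fun x hx => ?_, fun x hx y hy => ?_⟩
  · obtain ⟨a, ha, rfl⟩ := of_rl K hx
    exact ap_mt K w a ▸ rl K (ha.act w)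
  · obtain ⟨a, -, rfl⟩ := of_rl K hx
    obtain ⟨b, hb, rfl⟩ := of_rl K hy
    rw [ap_mt, ap_mt, fm_ev K _ (hb.act w), fm_ev K _ hb]
    exact TW.pr_act w a hb

theorem vl {c : ℤ} (h : Vl c (mt K g)) : ∃ a, X.Rt a ∧ X.wt a ⬝ᵥ X.cor (X.act g a) = c := by
  obtain ⟨x, hx, e⟩ := h
  obtain ⟨a, ha, rfl⟩ := of_rl K hx
  exact ⟨a, ha, by rwa [ap_mt, fm_ev K _ (ha.act g)] at e⟩

theorem act_three (h3 : g ^ 3 = 1) (a : X.I → ℤ) : X.act g (X.act g (X.act g a)) = a := by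
  rw [← act_mul', ← act_mul', ← pow_three', h3, Kit.act_one']

/-- the case B -/
theorem ks_of (H : Ok X chevE6 6 1) (hA : ∀ y, A *ᵥ y = ε • y) (h3 : g ^ 3 = 1) (h : Vl 1 (mt K g)) :
    ∃ b, Ks X 3 ε A b ∧ ∀ i, X.act g (b i) = b (i + 1) := by
  obtain ⟨a, r0, p01⟩ := vl K h
  have e0 := act_three h3 a
  have r1 : X.Rt (X.act g a) := r0.act g
  have r2 : X.Rt (X.act g (X.act g a)) := r1.act g
  have p12 : X.wt (X.act g a) ⬝ᵥ X.cor (X.act g (X.act g a)) = 1 := (TW.pr_act g a r1).trans p01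
  have p20 : X.wt (X.act g (X.act g a)) ⬝ᵥ X.cor a = 1 := by
    have := (TW.pr_act g _ r2).trans p12
    rwa [e0] at this
  have hact : ∀ i : ZMod 3, X.act g ((![a, X.act g a, X.act g (X.act g a)] : Fin 3 → _) i) =
      (![a, X.act g a, X.act g (X.act g a)] : Fin 3 → _) (i + 1 : ZMod 3) := fun i => by
    rcases three i with rfl | rfl | rfl
    exacts [rfl, rfl, e0]
  refine ⟨(![a, X.act g a, X.act g (X.act g a)] : Fin 3 → _), ?_, hact⟩
  clear hact e0
  generalize X.act g (X.act g a) = a2 at *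
  generalize X.act g a = a1 at *
  have p10 := (pr_comm K r1 r0).trans p01
  have p21 := (pr_comm K r2 r1).trans p12
  have p02 := (pr_comm K r0 r2).trans p20
  refine ⟨fun i => ?_, fun i j hij => ?_, fun i => hA _, fun c hc hn _ => ?_⟩
  · rcases three i with rfl | rfl | rfl
    exacts [r0, r1, r2]
  · rcases three i with rfl | rfl | rfl <;> rcases three j with rfl | rfl | rfl
    exacts [absurd rfl hij, p01, p02, p10, absurd rfl hij, p12, p20, p21, absurd rfl hij]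
  have ru : X.Rt (a - a1) := by
    have := (rt_act (X.rf a1)).2 r0
    rwa [TW.act_rf r1, show TW.pr X a a1 = 1 from p01, one_smul] at this
  have rv : X.Rt (a1 - a2) := by
    have := (rt_act (X.rf a2)).2 r1
    rwa [TW.act_rf r2, show TW.pr X a1 a2 = 1 from p12, one_smul] at this
  obtain ⟨K', k1, k2⟩ := K.pair H ru rv (by
    rw [K.wt_cor _ rv, map_sub, map_sub, co_sub, sub_dotProduct, dotProduct_sub, dotProduct_sub, ← K.wt_cor _ r1, ← K.wt_cor _ r2,
      ← K.wt_cor _ r1, ← K.wt_cor _ r2, p01, p02, p12, show X.wt a1 ⬝ᵥ X.cor a1 = 2 from TW.pr_self r1]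
    rfl)
  obtain ⟨-, -, t1, t2, t3, t4, t5, t6, -⟩ := vec_RL
  rw [← k1] at t1 t3 t4 t6
  rw [← k2] at t2 t3 t5 t6
  rw [← map_add] at t3 t6
  rw [← map_neg] at t4 t5 t6
  rcases (tab _ (rl K' hc)).2.2.2.2 with e | e | e | e | e | e | ⟨y, hy, e1, e2, e3⟩
  · exact absurd (ev_inj K' (e.trans t1.symm)) (hn 0 1)
  · exact absurd (ev_inj K' (e.trans t2.symm)) (hn 1 2)
  · exact absurd ((ev_inj K' (e.trans t3.symm)).trans (sub_add_sub_cancel _ _ _)) (hn 0 2)
  · exact absurd ((ev_inj K' (e.trans t4.symm)).trans (neg_sub _ _)) (hn 1 0)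
  · exact absurd ((ev_inj K' (e.trans t5.symm)).trans (neg_sub _ _)) (hn 2 1)
  · exact absurd ((ev_inj K' (e.trans t6.symm)).trans (by rw [sub_add_sub_cancel, neg_sub]; rfl)) (hn 2 0)
  obtain ⟨y, ry, rfl⟩ := of_rl K' hy
  replace e1 := (fm_ev K' _ ry).symm.trans (t1 ▸ e1)
  replace e2 := (fm_ev K' _ ry).symm.trans (t2 ▸ e2)
  rw [map_sub, sub_dotProduct, sub_eq_zero] at e1 e2
  have e4 : ∀ i : ZMod 3, X.wt ((![a, a1, a2] : Fin 3 → _) i) ⬝ᵥ X.cor y = X.wt a1 ⬝ᵥ X.cor y := fun i => by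
    rcases three i with rfl | rfl | rfl
    exacts [e1, rfl, e2.symm]
  exact ⟨X.cor y, hA _, fun i j => by rw [map_sub, sub_dotProduct, e4, e4, sub_self], fm_ev K' c ry ▸ e3⟩

include K in
/-- every root is fixed by a conjugate -/
theorem fix (H : Ok X chevE6 6 1) (h : Lt X 3 d Q A Γ) (hd : (d = 1 ∧ ε = 1) ∨ (d = 2 ∧ ε = -1)) (hA : A = ε • 1) (hg : g ∈ Γ) {j : ℕ}
    (hj : g ^ 3 ^ j = 1) (ha : X.Rt a) : ∃ w ∈ Γ, X.act (w⁻¹ * g * w) a = a := by
  have hε : ε = 1 ∨ ε = -1 := hd.imp (·.2) (·.2)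
  have hQ : ((3 : ℕ) : ℤ) ∣ ε * Q - 1 := by
    have e := h.ord
    rw [← ZMod.intCast_zmod_eq_zero_iff_dvd]
    push_cast
    generalize (Q : ZMod 3) = x at e
    rcases hd with ⟨rfl, rfl⟩ | ⟨rfl, rfl⟩
    · rw [orderOf_eq_one_iff.1 e]
      rfl
    · have e1 := pow_orderOf_eq_one x
      rw [e] at e1
      rcases three x with rfl | rfl | rfl
      exacts [absurd e1 (by decide), absurd (e.symm.trans orderOf_one) (by decide), rfl]
  obtain ⟨w, hw, h1⟩ := Rd.conj_md Nat.prime_three h hg hj a fun c hc => absurd ((TW.pr_self hc.1).symm.trans (hc.2 (X.cor c) (by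
    rcases hd with ⟨rfl, rfl⟩ | ⟨rfl, rfl⟩
    · exact Rd.ud_one.2 (by rw [hA, one_smul, one_mulVec])
    · exact Rd.ud_two.2 (by rw [hA, neg_smul, one_smul, neg_mulVec, one_mulVec])))) two_ne_zero
  have h2 := Rd.md_dvd Nat.prime_three (by decide) two_pos (by rcases hε with rfl | rfl <;> simp [hA]) hε hQ
    (by rw [hA, vecMul_smul, vecMul_one]) h1
  rw [← X.wt_act'] at h2
  obtain ⟨u, hu⟩ := K.one H ha
  generalize K.tw H.sl u = K' at hu
  have h3 : ev K' a = th := (congrArg tv hu).trans vec_RL.2.2.1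
  have h4 := (tab _ (rl K' (ha.act (w⁻¹ * g * w)⁻¹))).2.2.2.1 fun z hz => by
    obtain ⟨c, hc, rfl⟩ := of_rl K' hz
    rw [← h3, fm_ev K' _ hc, fm_ev K' _ hc, ← sub_dotProduct]
    exact Finset.dvd_sum fun r _ => (h2 r).mul_right _
  exact ⟨w, hw, by rw [← ev_inj K' (h4.trans h3.symm), act_act_inv, ev_inj K' (h4.trans h3.symm)]⟩

/-- **the split case** -/
theorem split (h1 : Pi1 X 1) (ss : ∀ v, Pp X {a | X.Rt a} v → v = 0) (hT : Ty X hpE6) (h : Lt X 3 d Q A Γ) (ε : ℤ)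
    (hd : (d = 1 ∧ ε = 1) ∨ (d = 2 ∧ ε = -1)) (hA : A = ε • 1) : CA X 3 d A Γ ∨ CB X 3 d A Γ := by
  obtain ⟨Mx, X₀, ⟨K⟩⟩ := hT.kit
  have H : Ok X chevE6 6 1 := TE.ok6 (m := 6) ⟨h1, ss, Or.inl ⟨rfl, hT⟩⟩
  refine or_iff_not_imp_right.2 fun hB => Rd.ca_of Nat.prime_three fun g₁ hg₁ ⟨j, hj⟩ => by_contra fun h0 => ?_
  have nv : ∀ (K : Kit X X₀), ∀ g ∈ Γ, g ^ 3 = 1 → ¬ Vl 1 (mt K g) := fun K g hg h3 hv =>
    let ⟨b, k1, k2⟩ := ks_of K H (fun y => by rw [hA, smul_mulVec, one_mulVec]) h3 hv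
    hB ⟨ε, b, hd, k1, g, hg, k2⟩
  have fx : ∀ g ∈ Γ, ∀ j : ℕ, g ^ 3 ^ j = 1 → ∃ a, X.Rt a ∧ X.act g a = a := fun g hg j hj =>
    let ⟨w, _, e⟩ := fix K H h hd hA hg hj (K.rt_sr 0)
    ⟨_, (K.rt_sr 0).act w, by rw [← act_mul', show g * w = w * (w⁻¹ * g * w) by group, act_mul', e]⟩
  have nf : ∀ (K : Kit X X₀), ∀ g ∈ Γ, ∀ j : ℕ, g ^ 3 ^ j = 1 → ¬ ∀ x ∈ RL, ap (mt K g) x ≠ x := fun K g hg j hj e =>
    let ⟨a, ha, e1⟩ := fx g hg j hj
    e _ (rl K ha) (by rw [ap_mt, e1])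
  have gd : ∀ (K : Kit X X₀), ∀ g ∈ Γ, ¬ Gd (mt K g) := fun K g hg e =>
    nf K g hg 2 (eq_one K (by rw [← e.2, mt_cu, mt_cu, ← pow_mul]; rfl)) e.1
  have p1 : ∀ (K : Kit X X₀) (g : X.W) (a : X.I → ℤ), g ≠ 1 → g ^ 3 = 1 → K.e a = hr chevE6 6 → X.act g a = a →
      Vl (-1) (mt K g) ∧ (Vl 1 (mt K g) ∨ ∀ n ∈ L0, Gd (ml n (mt K g)) ∨ Gd (ml n (ml (mt K g) (mt K g)))) := fun K g a e0 e1 e2 e3 =>
    (one (iso K g) (by rw [mt_cu, e1, mt_one]) (by
      rw [← show ev K a = th from (congrArg tv e2).trans vec_RL.2.2.1, ap_mt, e3])).resolve_left fun e => e0 (eq_one K e)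
  obtain ⟨i, h2, h3⟩ := exists_three (g := g₁) (fun e => h0 fun y _ => by rw [e, X.Wm_one, one_mulVec]) hj
  have hg := pow_mem hg₁ i
  generalize g₁ ^ i = g at h2 h3 hg
  obtain ⟨c, hc, e⟩ := fx g hg 1 h3
  obtain ⟨u, hu⟩ := K.one H hc
  obtain ⟨a, ha, h4⟩ := vl _ (p1 _ g c h2 h3 hu e).1
  obtain ⟨K', k1, k2⟩ := K.pair H ha (ha.act g) h4
  have k3 : ev K' a = th := (congrArg tv k1).trans vec_RL.2.2.1
  have k4 : ev K' (X.act g a) = nb := (congrArg tv k2).trans vec_RL.2.2.2.1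
  have h5 := ((zero (iso K' g) (by rw [mt_cu, h3, mt_one]) (by rw [← k3, ← k4, ap_mt]) (by
    rw [← k3, ← k4, ap_mt, fm_ev K' _ ha, ← h4]
    have := (TW.pr_act g (X.act g (X.act g a)) ha).symm
    rwa [act_three h3] at this)).resolve_left (nv K' g hg h3)).resolve_left (nf K' g hg 1 h3)
  obtain ⟨w, hw, h6⟩ := fix K H h hd hA hg (j := 1) h3 ha
  have h7 : w⁻¹ * g * w ∈ Γ := mul_mem (mul_mem (inv_mem hw) hg) hw
  have h8 : (w⁻¹ * g * w) ^ 3 = 1 := by
    have := conj_pow (i := 3) (a := w⁻¹) (b := g)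
    rw [inv_inv] at this
    rw [this, h3, mul_one, inv_mul_cancel]
  rcases ((p1 K' _ a (fun e => h2 (by rw [show g = w * (w⁻¹ * g * w) * w⁻¹ by group, e]; group)) h8 k1 h6).2.resolve_left
    (nv K' _ h7 h8)) _ h5 with e | e
  · exact gd K' _ (mul_mem hg h7) (mt_mul K' _ _ ▸ e)
  · exact gd K' _ (mul_mem hg (mul_mem h7 h7)) (by rwa [mt_mul K' g, mt_mul K' (w⁻¹ * g * w)])

end Cfsg.Agent.BZ.K3.E6S

private theorem dce_9895b250412b : _root_.True := by
  try have : _root_.True := by simp only [_root_.Cfsg.Agent.BZ.K3.E6S.ev.eq_1]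
  try have : _root_.True := by simp only [_root_.Cfsg.Agent.BZ.K3.E6S.tv.eq_1]
  try have : _root_.True := by simp only [_root_.Cfsg.Agent.BZ.K3.E6C.ml.eq_1]
  try have : _root_.True := by simp only [_root_.Cfsg.Agent.BZ.K3.E6C.cu.eq_1]
  try have : _root_.True := by simp only [_root_.Cfsg.Agent.BZ.K3.E6S.mt.eq_1]
  exact _root_.True.intro
end

-- part: BZ/L/B3/Lat
section
set_option linter.all false
open scoped Cfsg.Agent.FastGrp

/-!
# BZ / B3 : the lattice lemmas for `E₇` and `E₈` (helper14)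

`Em` : the cocharacter lattice inside the lattice `E₈`; `Em.lat`; `lat_e7`, `lat_e8`, `lat_e85_of`.
-/

set_option autoImplicit false
set_option linter.unusedSectionVars false

namespace Cfsg.Agent.BZ.B3

open Cfsg Cfsg.Lie Cfsg.Agent.HZ.L.E7 Cfsg.Agent.Tits.Roots Cfsg.Agent.LV.Lab Matrix Cfsg.Agent.DL Cfsg.Agent.KM.Tor
  Cfsg.Agent.BZ.K3 Cfsg.Agent.BZ.K3.Rd Cfsg.Agent.KZ.DatX Cfsg.Agent.Nodes.RGDChev Cfsg.Agent.ChevalleyStructure.CoxeterGeomTypes
open Cfsg.Agent.TO.X.Cn (Pi1 pm_E7 pm_E8)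
open Cfsg.Agent.RC.B (Kit Ok Ty)

variable {p : ℕ} [Fact p.Prime] {k : Type} [Field k] [CharP k p] {Y : Type} [Group Y] {N : Type} [Fintype N]
  [DecidableEq N] {ρ : Y →* GL N k} {F : MulAut Y} {G : Subgroup Y} [IsAlgClosed k] {X : Datum p ρ F G}
  {l d n : ℕ} {Q : ℤ} {A : Matrix X.R X.R ℤ} {Γ : Subgroup X.W}

variable (X) in
/-- the lattices of `X` inside the lattice `E₈` -/
structure Em where
  J : (X.R → ℤ) →+ V
  j : (X.I → ℤ) →+ V
  β : V
  inj : Function.Injective J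
  jinj : Function.Injective j
  dot : ∀ a y, X.wt a ⬝ᵥ y = bf (j a) (J y)
  cor : ∀ a, X.Rt a → J (X.cor a) = j a
  rt : ∀ a, X.Rt a ↔ Rt (j a)
  hβ : β = 0 ∨ β = th
  img : ∀ x, (∃ y, J y = x) ↔ bf β x = 0
  img' : ∀ x, (∃ a, j a = x) ↔ bf β x = 0

theorem tv_conj (h : Lt X l d Q A Γ) {g w : X.W} (hw : w ∈ Γ) (e : Tv X d A g) : Tv X d A (w⁻¹ * g * w) := fun y hy => by
  rw [X.Wm_mul, X.Wm_mul, ← mulVec_mulVec, ← mulVec_mulVec, e _ (h.st w hw y hy).1, mulVec_mulVec, ← X.Wm_mul, inv_mul_cancel,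
    X.Wm_one, one_mulVec]

theorem exists_last {g : X.W} (hg : g ∈ Γ) {i : ℕ} (hi : g ^ l ^ i = 1) (e : ¬ Tv X d A g) :
    ∃ g ∈ Γ, (∃ i, g ^ l ^ i = 1) ∧ ¬ Tv X d A g ∧ Tv X d A (g ^ l) := by
  induction i generalizing g with
  | zero => exact absurd (fun y _ => by rw [← pow_one g, ← pow_zero l, hi, X.Wm_one, one_mulVec]) e
  | succ i ih =>
    by_cases h : Tv X d A (g ^ l)
    · exact ⟨g, hg, ⟨_, hi⟩, e, h⟩
    · exact ih (pow_mem hg l) (by rw [← pow_mul, ← pow_succ', hi]) h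

namespace Em

variable (E : Em X)

theorem span {y : X.R → ℤ} {a : X.I → ℤ} (h : E.J y = E.j a) : y = ∑ i, a i • X.cor (sr i) := E.inj (by
  rw [h, map_sum]
  conv_lhs => rw [X.eq_sum_sr a, map_sum]
  exact Finset.sum_congr rfl fun i _ => by rw [map_zsmul, map_zsmul, E.cor _ (isRoot_sr _ _ i)])

theorem iso {B : Matrix X.R X.R ℤ} (h : ∀ a, X.Rt a → ∃ a', X.Rt a' ∧ B *ᵥ X.cor a = X.cor a' ∧ X.wt a' ᵥ* B = X.wt a)
    (y y' : X.R → ℤ) : bf (E.J (B *ᵥ y)) (E.J (B *ᵥ y')) = bf (E.J y) (E.J y') := by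
  obtain ⟨a, ha⟩ := (E.img' _).2 ((E.img _).1 ⟨y, rfl⟩)
  rw [E.span ha.symm, mulVec_sum, map_sum, map_sum, bf_comm, bf_comm _ (E.J y'), bf_sum', bf_sum']
  refine Finset.sum_congr rfl fun i _ => ?_
  obtain ⟨b, hb, h1, h2⟩ := h _ (isRoot_sr _ _ i)
  rw [mulVec_smul, map_zsmul, map_zsmul, bf_smul_right, bf_smul_right, h1, E.cor _ hb, E.cor _ (isRoot_sr _ _ i), bf_comm,
    bf_comm (E.J y'), ← E.dot, ← E.dot, dotProduct_mulVec, h2]

theorem J_Wm (w : X.W) {y : X.R → ℤ} {a : X.I → ℤ} (h : E.J y = E.j a) : E.J (X.Wm w *ᵥ y) = E.j (X.act w a) := by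
  rw [E.span h, mulVec_sum, map_sum]
  conv_rhs => rw [X.eq_sum_sr a, Datum.act, map_sum, map_sum]
  exact Finset.sum_congr rfl fun i _ => by
    rw [mulVec_smul, map_zsmul, map_zsmul, map_zsmul, ← X.cor_act w (isRoot_sr _ _ i), E.cor _ ((rt_act w).2 (isRoot_sr _ _ i))]

theorem exists_W (w : X.W) : ∃ g : En, Is g ∧ (∀ y, g (E.J y) = E.J (X.Wm w *ᵥ y)) ∧ ∀ a, g (E.j a) = E.j (X.act w a) := by
  obtain ⟨g, h1, h2⟩ := ext7 E.inj E.hβ E.img (X.Wm w).mulVecLin.toAddMonoidHom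
    (E.iso fun a ha => ⟨_, (rt_act w).2 ha, (X.cor_act w ha).symm, X.wt_act w a⟩) fun y => ⟨_, Wm_Wm_inv w y⟩
  refine ⟨g, h1, h2, fun a => ?_⟩
  obtain ⟨y, hy⟩ := (E.img _).2 ((E.img' _).1 ⟨a, rfl⟩)
  rw [← E.J_Wm w hy, ← hy]
  exact h2 y

include E in
/-- the cases `d = 1, 2` -/
theorem lat (hl : l.Prime) (h3 : 3 ≤ l) (hN : Nf X A n) {ε : ℤ} (hd : (d = 1 ∧ ε = 1) ∨ (d = 2 ∧ ε = -1))
    (hQ : (l : ℤ) ∣ ε * Q - 1) (h : Lt X l d Q A Γ) : CA X l d A Γ ∨ CB X l d A Γ := by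
  have hε : ε = 1 ∨ ε = -1 := hd.imp And.right And.right
  have hee : ε * ε = 1 := by rcases hε with rfl | rfl <;> norm_num
  have hu : ∀ y, Ud d A y ↔ A *ᵥ y = ε • y := fun y => by
    rcases hd with ⟨rfl, rfl⟩ | ⟨rfl, rfl⟩
    exacts [by rw [ud_one, one_smul], by rw [ud_two, neg_one_smul]]
  have hA := E.iso (B := A) fun a ha => ⟨_, X.g_root a ha, hN.cor a ha, hN.wt a ha⟩
  obtain ⟨τ, t1, t2⟩ := ext7 E.inj E.hβ E.img (ε • A).mulVecLin.toAddMonoidHom (fun y y' => by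
    show bf (E.J ((ε • A) *ᵥ y)) (E.J ((ε • A) *ᵥ y')) = _
    rw [smul_mulVec, smul_mulVec, map_zsmul, map_zsmul, bf_smul_left, bf_smul_right, ← mul_assoc, hee, one_mul, hA]) fun y =>
    ⟨ε • (A ^ (n - 1) *ᵥ y), by
      show (ε • A) *ᵥ _ = _
      rw [smul_mulVec, mulVec_smul, smul_smul, hee, one_smul, mulVec_mulVec, ← pow_succ', Nat.sub_add_cancel hN.n0, hN.pow,
        one_mulVec]⟩
  replace t2 : ∀ y, τ (E.J y) = E.J (ε • A *ᵥ y) := fun y => (t2 y).trans (congrArg E.J (smul_mulVec _ _ _))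
  obtain ⟨U, hU⟩ : ∃ U : Submodule ℤ V, ∀ v, v ∈ U ↔ ∃ y, A *ᵥ y = ε • y ∧ E.J y = v :=
    ⟨(LinearMap.ker (A.mulVecLin - ε • LinearMap.id)).map E.J.toIntLinearMap, fun v => exists_congr fun y => and_congr_left'
      (LinearMap.mem_ker.trans sub_eq_zero)⟩
  have u1 : ∀ y, E.J y ∈ U ↔ A *ᵥ y = ε • y := fun y =>
    ⟨fun e => let ⟨_, e1, e2⟩ := (hU _).1 e; E.inj e2 ▸ e1, fun e => (hU _).2 ⟨y, e, rfl⟩⟩
  have u2 : ∀ u ∈ U, bf E.β u = 0 := fun u hu => let ⟨y, _, e⟩ := (hU u).1 hu; (E.img u).1 ⟨y, e⟩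
  have cl : Cl U := fun v hv => by
    obtain ⟨y, rfl⟩ := (E.img v).2 (E.hβ.elim (fun e => by rw [e, bf_zero_left]) fun e => hv _ (e ▸ rt_th) u2)
    have h1 := t1.fix_of (U := U) (fun u hu => by
      obtain ⟨y, e, rfl⟩ := (hU u).1 hu
      rw [t2, e, smul_smul, hee, one_smul]) hv
    rw [t2] at h1
    rw [u1, ← E.inj h1, smul_smul, hee, one_smul, E.inj h1]
  obtain ⟨x, hx, H⟩ := cl.la hl h3
  obtain ⟨b, rfl⟩ := (E.img' x).2 (u2 x hx)
  by_cases h0 : ∀ g ∈ Γ, (∃ i : ℕ, g ^ l ^ i = 1) → Tv X d A g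
  · exact .inl (ca_of hl h0)
  push Not at h0
  obtain ⟨g, hg, ⟨i, hi⟩, e⟩ := h0
  obtain ⟨g, hg, ⟨i, hi⟩, e, e'⟩ := exists_last hg hi e
  obtain ⟨w, hw, hm⟩ := conj_md hl h (inv_mem hg) (j := i) (by rw [inv_pow, hi, inv_one]) b fun a ha => by
    obtain ⟨y, e1, e2⟩ := (hU _).1 hx
    rw [E.dot, E.cor a ha.1, bf_comm, ← e2, ← E.dot, ha.2 y ((hu y).2 e1)]
  have hv : w⁻¹ * g * w ∈ Γ := mul_mem (mul_mem (inv_mem hw) hg) hw
  have v1 : ¬ Tv X d A (w⁻¹ * g * w) := fun e1 => e (by simpa [mul_assoc] using tv_conj h (inv_mem hw) e1)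
  have v2 : Tv X d A ((w⁻¹ * g * w) ^ l) := by
    rw [show (w⁻¹ * g * w) ^ l = w⁻¹ * g ^ l * w by simpa only [inv_inv] using conj_pow (i := l) (a := w⁻¹) (b := g)]
    exact tv_conj h hw e'
  rw [← X.wt_act', show (w⁻¹ * g⁻¹ * w)⁻¹ = w⁻¹ * g * w by group, ← map_sub] at hm
  generalize w⁻¹ * g * w = v at hv v1 v2 hm
  obtain ⟨f, f1, f2, f3⟩ := E.exists_W v
  have f4 : ∀ u ∈ U, f u ∈ U := fun u hu' => by
    obtain ⟨y, e1, rfl⟩ := (hU u).1 hu'
    rw [f2, u1, ← hu]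
    exact (h.st v hv y ((hu y).2 e1)).1
  have f5 : ∀ (m : ℕ) y, (f ^ m) (E.J y) = E.J (X.Wm (v ^ m) *ᵥ y) := fun m y => by
    induction m with
    | zero => rw [pow_zero, pow_zero, X.Wm_one, one_mulVec, Module.End.one_apply]
    | succ m ih => rw [pow_succ', pow_succ', Module.End.mul_apply, ih, f2, X.Wm_mul, mulVec_mulVec]
  have f6 : E.j (X.act v b - b) ∈ U := by rw [map_sub, ← f3]; exact U.sub_mem (f4 _ hx) hx
  have f7 := md_dvd hl (by omega) hN.n0 hN.pow hε hQ (dotProduct_eq _ _ fun y => by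
    obtain ⟨z, e1, e2⟩ := (hU _).1 f6
    rw [← dotProduct_mulVec, smul_dotProduct, E.dot, E.dot, ← e2, ← hA z y, e1, map_zsmul, bf_smul_left, smul_eq_mul, ← mul_assoc,
      hee, one_mul]) hm
  rcases H f ⟨f1, f4, fun u hu' => by
      obtain ⟨y, e1, rfl⟩ := (hU u).1 hu'
      rw [f5, v2 y ((hu y).2 e1)]⟩ (fun u => by
      obtain ⟨y, hy⟩ := (E.img ((2 : ℤ) • u - bf E.β u • E.β)).2 (by
        rw [bf_sub_right, bf_smul_right, bf_smul_right]
        rcases E.hβ with e | e <;> rw [e]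
        exacts [by simp only [bf_zero_left, mul_zero, sub_self], by rw [show bf th th = 2 from rt_th, mul_comm, sub_self]])
      have h1 : (l : ℤ) ∣ X.wt (X.act v b - b) ⬝ᵥ y := Finset.dvd_sum fun r _ => (f7 r).mul_right _
      rw [E.dot, hy, bf_sub_right, bf_smul_right, bf_smul_right, bf_comm _ E.β, u2 _ f6, mul_zero, sub_zero] at h1
      rw [f3, ← map_sub]
      exact ((Nat.prime_iff_prime_int.1 hl).dvd_or_dvd h1).resolve_left fun e => by
        have := Int.le_of_dvd two_pos e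
        omega) with h1 | ⟨c, R⟩
  · exact absurd (fun y hy => E.inj (by rw [← f2, h1 _ ((u1 y).2 ((hu y).1 hy))])) v1
  choose c' hc using fun i => (E.img' (c i)).2 (u2 _ (R.mem i))
  have h1 : ∀ i, X.Rt (c' i) := fun i => (E.rt _).2 (hc i ▸ R.rt i)
  refine .inr ⟨ε, c', hd, ⟨h1, fun i j e => by rw [E.dot, E.cor _ (h1 j), hc, hc, R.one i j e],
    fun i => (u1 _).1 (by rw [E.cor _ (h1 i), hc]; exact R.mem i), fun a ha e1 ⟨y, e2, e3⟩ => ?_⟩, v, hv,
    fun i => E.jinj (by rw [← f3, hc, hc, R.act])⟩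
  obtain ⟨u, hu', e4, e5⟩ := R.lv _ ((E.rt a).1 ha) (fun i j e => e1 i j (E.jinj (by rw [e, map_sub, hc, hc])))
    ⟨_, (u1 y).2 e2, by rwa [← E.dot]⟩
  obtain ⟨z, e6, rfl⟩ := (hU u).1 hu'
  exact ⟨z, e6, fun i j => by rw [E.dot, map_sub, hc, hc, e4], by rwa [E.dot]⟩

end Em

section Kit

variable {C : ChevalleyDatum} {m : ℕ} {M : CoxeterMatrix (Fin m)} {hp : IsType C m M} {i₀ : Fin m}

theorem em_of (H : Ok X C m i₀) (h : Ty X hp) (ι : (Fin m → ℤ) →+ V) (inj : Function.Injective ι)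
    (h1 : ∀ a b, a ⬝ᵥ co C m b = bf (ι a) (ι b)) (h2 : ∀ a, Rt (ι a) → ∃ r < C.nroots, vec C m r = a) {β : V} (hβ : β = 0 ∨ β = th)
    (img : ∀ x, (∃ a, ι a = x) ↔ bf β x = 0) : Nonempty (Em X) := by
  obtain ⟨Mx, X₀, ⟨K⟩⟩ := h.kit
  let e := AddEquiv.ofBijective K.ψ ⟨K.ψ_inj H, fun v => (K.exists_ψ H v).imp fun _ => Eq.symm⟩
  have h3 : ∀ b, e.symm (K.ψ b) = b := e.symm_apply_apply
  refine ⟨⟨ι.comp e.symm.toAddMonoidHom, ι.comp K.e.toAddMonoidHom, β, inj.comp e.symm.injective, inj.comp K.e.injective,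
    fun a y => ?_, fun a ha => congrArg ι ((congrArg e.symm (K.cor_eq H ha)).trans (h3 _)), fun a => ⟨fun ha => ?_, fun ha => ?_⟩, hβ,
    fun x => (e.symm.surjective.exists (p := fun a => ι a = x)).symm.trans (img x),
    fun x => (K.e.surjective.exists (p := fun a => ι a = x)).symm.trans (img x)⟩⟩
  · obtain ⟨b, rfl⟩ := K.exists_ψ H y
    exact (K.dot_ψ a b).trans ((h1 _ _).trans (congrArg (fun b => bf _ (ι b)) (h3 b).symm))
  · exact (h1 _ _).symm.trans ((K.pr a a ha).symm.trans (Nodes.Coroot.cpr_self _ _ ha))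
  · exact (K.rt a).2 ((X₀.rt_iff _).2 (h2 _ ha))

end Kit

theorem em8 (hP : Pi1 X 1) (ss : ∀ v, Pp X {a | X.Rt a} v → v = 0) (h : Ty X hpE8) : Nonempty (Em X) :=
  em_of ⟨hP, ss, RC.B.sl_E8, ⟨1, by decide, pm_E8⟩, RC.B.pr_E8⟩ h (AddMonoidHom.id _) Function.injective_id
    (fun a b => congrArg (a ⬝ᵥ ·) (funext fun j => (Finset.sum_congr rfl fun i _ => by rw [car' i j]).trans
      ((bf_sum b (sr j)).symm.trans ((bf_comm _ _).trans (bf_sr j b)))))
    (fun a ha => (isRoot_iff hpE8 _ a).1 (rt_iff.1 ha)) (.inl rfl) fun x => iff_of_true ⟨x, rfl⟩ (bf_zero_left x)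

/-- `E₇` inside `E₈` -/
def i7 : (Fin 7 → ℤ) →+ V := AddMonoidHom.mk' (fun a => ![a 0, a 1, a 2, a 3, a 4, a 5, a 6, 0]) fun a b => by
  funext i
  fin_cases i <;> rfl

private def w7 (x : ℕ) : ℕ := Nat.land (Nat.shiftRight
  0xd56b0cc00000460000000013c044d1600000000045c952f49e148041d97304b0000048c74fb80dc00000cf5efcae600000cd5bd00e40003fd76f14dec000000003c80da00043d367d80ea000000000000e344040000000000000470003c00dff7e420000000e938000cb540000142e80
  (7 * (x % 128))) 127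

theorem chk7 : ∀ x ∈ L8, ∀ s ∈ [dg 8 x, -dg 8 x], s 7 = 0 → ∃ r < chevE7.nroots, ∀ i : Fin 7, vec chevE7 7 r i = s i.castSucc := by
  have h : ∀ x ∈ L8, dg 8 x 7 = 0 → (w7 x < chevE7.nroots ∧ ∀ i : Fin 7, vec chevE7 7 (w7 x) i = dg 8 x i.castSucc) ∧
      125 - w7 x < chevE7.nroots ∧ ∀ i : Fin 7, vec chevE7 7 (125 - w7 x) i = -dg 8 x i.castSucc := by decide +kernel
  intro x hx s hs h7
  rcases List.mem_pair.1 hs with rfl | rfl
  · exact ⟨_, (h x hx h7).1⟩
  · exact ⟨_, (h x hx (neg_eq_zero.1 h7)).2⟩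

theorem i7_cast (a : Fin 7 → ℤ) (i : Fin 7) : i7 a i.castSucc = a i := by fin_cases i <;> rfl

theorem em7 (hP : Pi1 X 1) (ss : ∀ v, Pp X {a | X.Rt a} v → v = 0) (h : Ty X hpE7) : Nonempty (Em X) := by
  refine em_of ⟨hP, ss, RC.B.sl_E7, ⟨2, by decide, pm_E7⟩, RC.B.pr_E7⟩ h i7 (fun a b e => funext fun i => by
    rw [← i7_cast a, e, i7_cast]) (fun a b => ?_) (fun a ha => ?_) (.inr rfl) fun x => ⟨?_, fun e => ⟨fun i => x i.castSucc, ?_⟩⟩
  · have h1 : ∀ i j : Fin 7, cartanOf chevE7 7 i j = C8 j.castSucc i.castSucc := by decide +kernel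
    simp only [bf, dotProduct, mulVec, co, h1, Fin.sum_univ_castSucc (n := 7), i7_cast, show ∀ a, i7 a (Fin.last 7) = 0 from fun _ => rfl,
      zero_mul, mul_zero, add_zero, mul_comm (b _)]
  · obtain ⟨x, hx, e⟩ := rt_pm ha
    exact (chk7 x hx _ e rfl).imp fun r hr => ⟨hr.1, funext fun i => (hr.2 i).trans (i7_cast a i)⟩
  · rintro ⟨a, rfl⟩
    rw [bf_comm, bf_th]
    rfl
  · rw [bf_comm, bf_th] at e
    funext i
    fin_cases i <;> first | rfl | exact e.symm

theorem ca_zero (hl : l.Prime) : CA X l 0 A Γ := ca_of hl fun g _ _ y hy => by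
  rw [Ud, Polynomial.cyclotomic_zero, map_one, one_mulVec] at hy
  rw [hy, mulVec_zero]

theorem Em.lat' (E : Em X) (hl : l.Prime) (h3 : 3 ≤ l) (hN : Nf X A n) (h : Lt X l d Q A Γ)
    (e : (Q : ZMod l) = 0 ∨ (Q : ZMod l) = 1 ∨ (Q : ZMod l) = -1) : CA X l d A Γ ∨ CB X l d A Γ := by
  have : Fact l.Prime := ⟨hl⟩
  have : Fact (2 < l) := ⟨h3⟩
  have h1 := h.ord
  rcases e with e | e | e <;> rw [e] at h1
  · obtain rfl : d = 0 := h1.symm.trans (orderOf_zero _)
    exact .inl (ca_zero hl)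
  · exact E.lat hl h3 hN (.inl ⟨h1.symm.trans orderOf_one, rfl⟩)
      ((ZMod.intCast_zmod_eq_zero_iff_dvd _ l).1 (by push_cast; rw [e, one_mul, sub_self])) h
  · exact E.lat hl h3 hN (.inr ⟨h1.symm.trans (orderOf_eq_prime neg_one_sq ZMod.neg_one_ne_one), rfl⟩)
      ((ZMod.intCast_zmod_eq_zero_iff_dvd _ l).1 (by push_cast; rw [e, neg_one_mul, neg_neg, sub_self])) h

/-- **`E₇`, `l = 3`** -/
theorem lat_e7 : K3.Lat hpE7 3 := fun X q n c d Q A Γ hP ss hT hq hC hA h => (em7 hP ss hT).elim fun E =>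
  (E.lat' Nat.prime_three le_rfl (nf hq hC hA) h ((by decide : ∀ x : ZMod 3, x = 0 ∨ x = 1 ∨ x = -1) _)).imp_right .inl

/-- **`E₈`, `l = 3`** -/
theorem lat_e8 : K3.Lat hpE8 3 := fun X q n c d Q A Γ hP ss hT hq hC hA h => (em8 hP ss hT).elim fun E =>
  (E.lat' Nat.prime_three le_rfl (nf hq hC hA) h ((by decide : ∀ x : ZMod 3, x = 0 ∨ x = 1 ∨ x = -1) _)).imp_right .inl

/-- the case `d = 4` -/
def BoxFour : Prop := AllD fun {_} _ _ _ _ _ _ _ _ _ _ _ _ _ X => ∀ (n : ℕ) (Q : ℤ) (A : Matrix X.R X.R ℤ) (Γ : Subgroup X.W),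
  Pi1 X 1 → (∀ v, Pp X {a | X.Rt a} v → v = 0) → Ty X hpE8 → Nf X A n → Lt X 5 4 Q A Γ → CA X 5 4 A Γ

/-- **`E₈`, `l = 5`** -/
theorem lat_e85_of (h4 : BoxFour) : K3.Lat hpE8 5 := fun X q n c d Q A Γ hP ss hT hq hC hA h => by
  rcases (by decide : ∀ x : ZMod 5, (x = 0 ∨ x = 1 ∨ x = -1) ∨ (x ^ 2 ^ 1 ≠ 1 ∧ x ^ 2 ^ (1 + 1) = 1)) (Q : ZMod 5) with e | e
  · exact (em8 hP ss hT).elim fun E => (E.lat' Nat.prime_five (by norm_num) (nf hq hC hA) h e).imp_right .inl
  · obtain rfl : d = 4 := h.ord.symm.trans (orderOf_eq_prime_pow e.1 e.2)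
    exact .inl (h4 X n Q A Γ hP ss hT (nf hq hC hA) h)

end Cfsg.Agent.BZ.B3
end

-- part: BZ/L/Ex/Lat
section
set_option linter.all false
open scoped Cfsg.Agent.FastGrp

/-!
# BZ-Ex-Lat : the lattice condition for `E₆`, `E₇`, `E₈` (helper76)
-/

set_option autoImplicit false
set_option maxRecDepth 100000
set_option Elab.async false

namespace Cfsg.Agent.BZ.Ex

open Cfsg Cfsg.Lie Matrix Cfsg.Agent.KZ.DatX

namespace Lat

theorem all2 {α β : Type} {P : α → β → Prop} (h : ∀ q : α × β, P q.1 q.2) : ∀ i j, P i j := fun i j => h (i, j)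

private def dn (T k : ℕ) : ℕ := Nat.mod (Nat.shiftRight T (Nat.mul 3 k)) 8

private def ix (r j : ℕ) : ℕ := Nat.add (Nat.mul 8 r) j

private noncomputable def sN (f : ℕ → ℕ) (n : ℕ) : ℕ := Nat.rec 0 (fun i s => Nat.add s (f i)) n

private theorem sN_eq (f : ℕ → ℕ) : ∀ n, sN f n = ∑ i : Fin n, f i
  | 0 => rfl
  | n + 1 => by rw [Fin.sum_univ_castSucc]; exact congrArg (· + f n) (sN_eq f n)

private noncomputable def aN (f : ℕ → Bool) (n : ℕ) : Bool := Nat.rec true (fun i s => bif f i then s else false) n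

private theorem aN_spec {f : ℕ → Bool} : ∀ {c : ℕ}, aN f c = true → ∀ k < c, f k = true
  | 0, _, k, hk => absurd hk (Nat.not_lt_zero k)
  | c + 1, h, k, hk => by
    have h' : (bif f c then aN f c else false) = true := h
    cases hf : f c with
    | false => rw [hf] at h'; exact absurd h' (by simp)
    | true =>
      rw [hf] at h'
      rcases Nat.lt_succ_iff_lt_or_eq.1 hk with h1 | rfl
      · exact aN_spec h' k h1
      · exact hf

private def cg (l a b : ℕ) : Bool := Nat.beq (Nat.mod a l) (Nat.mod b l)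

private theorem cg_spec {l a b : ℕ} (h : cg l a b = true) : (a : ZMod l) = b :=
  (ZMod.natCast_eq_natCast_iff' a b l).2 (Nat.eq_of_beq_eq_true h)

private theorem cg_sum {l a n : ℕ} {f g : ℕ → ℕ} (h : cg l a (sN (fun i => Nat.mul (f i) (g i)) n) = true) :
    (a : ZMod l) = ∑ i : Fin n, (f i : ZMod l) * (g i : ZMod l) := by
  rw [cg_spec h, sN_eq, Nat.cast_sum]
  exact Finset.sum_congr rfl fun i _ => Nat.cast_mul _ _

private noncomputable def piB (c : Ce) (l n : ℕ) : Bool :=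
  aN (fun r => Nat.ble (Nat.succ (lk c.PI r)) c.N && aN (fun j => cg l (dn c.RT (ix (lk c.PI r) j))
    (sN (fun i => Nat.mul (dn c.RT (ix r i)) (dn c.S (ix i j))) n)) n) c.N

private theorem pi_of {c : Ce} {l n : ℕ} (h : piB c l n = true) :
    ∀ r < c.N, lk c.PI r < c.N ∧ ∀ j, vc l c.RT n (lk c.PI r) j = (vc l c.RT n r ᵥ* mt l c.S n n) j := fun r hr =>
  have h1 := Bool.and_eq_true_iff.1 (aN_spec h r hr)
  ⟨Nat.le_of_ble_eq_true h1.1, fun j => cg_sum (f := fun i => dn c.RT (ix r i)) (g := fun i => dn c.S (ix i j))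
    (aN_spec h1.2 j j.2)⟩

private noncomputable def cN (RT PI TC i k : ℕ) : ℕ → ℕ → ℕ :=
  Nat.rec (fun _ _ => 0) (fun _ ih r c => Nat.add (Nat.mul (dn TC c) (dn RT (ix r i))) (ih (lk PI r) (Nat.succ c))) k

private theorem cN_eq (l n RT PI TC : ℕ) (i : Fin n) : ∀ k r c, ((cN RT PI TC i k r c : ℕ) : ZMod l) = comb l n RT PI TC k r c i
  | 0, _, _ => Nat.cast_zero
  | k + 1, r, c => (Nat.cast_add _ _).trans (congrArg₂ _ (Nat.cast_mul _ _) (cN_eq l n RT PI TC i k _ _))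

private noncomputable def a1B (c : Ce) (l n : ℕ) : Bool :=
  aN (fun r => c.fx.elem r || aN (fun j => cg l (cN c.RT c.PI c.TC j l r (8 * r)) (dn c.RT (ix c.r0 j))) n) c.N

private theorem a1_of {c : Ce} {l n : ℕ} (h : a1B c l n = true) :
    ∀ r < c.N, r ∉ c.fx → ∀ j, comb l n c.RT c.PI c.TC l r (8 * r) j = vc l c.RT n c.r0 j := fun r hr hx j =>
  (cN_eq l n _ _ _ j _ _ _).symm.trans (cg_spec (aN_spec
    ((Bool.or_eq_true_iff.1 (aN_spec h r hr)).resolve_left fun e => hx (List.mem_of_elem_eq_true e)) j j.2))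

private noncomputable def hBB (c : Ce) (l n : ℕ) : Bool :=
  aN (fun i => aN (fun j => cg l (dn c.B (ix i j)) (sN (fun r => Nat.mul (dn c.RT (ix r i)) (dn c.RT (ix r j))) c.N)) n) n

private theorem hB_of {c : Ce} {l n : ℕ} (h : hBB c l n = true) :
    ∀ i j : Fin n, mt l c.B n n i j = ∑ r : Fin c.N, vc l c.RT n r i * vc l c.RT n r j := fun i j =>
  cg_sum (f := fun r => dn c.RT (ix r i)) (g := fun r => dn c.RT (ix r j)) (aN_spec (aN_spec h i i.2) j j.2)

private noncomputable def p3B (c : Ce) (l n : ℕ) : Bool :=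
  aN (fun r => aN (fun j => cg l (dn c.P (ix r j)) (sN (fun i => Nat.mul (dn c.RT (ix r i)) (dn c.U3 (ix i j))) n)) 3) c.N

private theorem p3_of {c : Ce} {l n : ℕ} (h : p3B c l n = true) :
    ∀ r < c.N, ∀ j, (vc l c.RT n r ᵥ* mt l c.U3 n 3) j = vc l c.P 3 r j := fun r hr j =>
  (cg_sum (f := fun i => dn c.RT (ix r i)) (g := fun i => dn c.U3 (ix i j)) (aN_spec (aN_spec h r hr) j j.2)).symm

private noncomputable def b3B (c : Ce) (l : ℕ) : Bool :=
  aN (fun a => aN (fun b => aN (fun d => !Nat.beq (sN (fun r => bif Nat.beq (Nat.mod (Nat.add (Nat.add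
    (Nat.mul (dn c.P (ix r 0)) a) (Nat.mul (dn c.P (ix r 1)) b)) (Nat.mul (dn c.P (ix r 2)) d)) l) 0 then 1 else 0) c.N) c.c0) l) l) l

private theorem b3_of {c : Ce} {l : ℕ} [NeZero l] (h : b3B c l = true) : ∀ t₀ t₁ t₂ : ZMod l,
    (∑ r : Fin c.N, if dg l c.P (8 * r) * t₀ + dg l c.P (8 * r + 1) * t₁ + dg l c.P (8 * r + 2) * t₂ = 0 then 1 else 0) ≠
      c.c0 := fun a b d e => by
  have h1 := aN_spec (aN_spec (aN_spec h _ (ZMod.val_lt a)) _ (ZMod.val_lt b)) _ (ZMod.val_lt d)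
  rw [Bool.not_eq_true', ← Bool.not_eq_true, Nat.beq_eq, sN_eq] at h1
  refine h1 (Eq.trans (Finset.sum_congr rfl fun r _ => ?_) e)
  have h2 : dg l c.P (8 * r) * a + dg l c.P (8 * r + 1) * b + dg l c.P (8 * r + 2) * d =
      ((dn c.P (ix r 0) * a.val + dn c.P (ix r 1) * b.val + dn c.P (ix r 2) * d.val : ℕ) : ZMod l) := by
    push_cast
    rw [ZMod.natCast_zmod_val, ZMod.natCast_zmod_val, ZMod.natCast_zmod_val]
    rfl
  rw [h2, Bool.cond_eq_ite]
  exact if_congr (by rw [Nat.beq_eq, ZMod.natCast_eq_zero_iff, Nat.dvd_iff_mod_eq_zero]; rfl) rfl rfl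

/-- the tables, `n = 6`, `l = 5` -/
def c65 : Ce where
  N := 72
  RT := 0xa69100a68900a48900948900148900a44900944900144900924900124900024900924100124100024100004100000100a4480094480014480092480012480002480092080012080002080000080092400012400002400000400092000012000002000090000010000080000200000040000240000008000048000248000001000009000049000249000000200008200048200248200009200049200249200047200247200237200000040001040009040049040249040009240049240249240047240247240237240046e40246e40236e40234e40234dc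
  S := 0x9000000200000040000001001208004904
  PI := 0x4744413f3d363432312f2e24221f1b0c46454342403e373533303c3a39382d2b2a29272621201e1d1c1a0f0e0d0b171412100907050402013b2c2825231918161513110a08060300
  TC := 0x406100400800180c00430800022000080100404000430100010100086100400100024900004100020900000100030c00004400184400110000020400080800186000422100102000110c00000c00020800080400000800006000024100004000030000020000180000420000080000084000010000090400010800002000020100082000002100406100400800180c00430800022000080100404000430100010100086100000400082400010400092400100400030c00004400184400110000020400080800186000422100102000110c000000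
  r0 := 56
  TD := 0x4000030000072400024a00024000000c
  s0 := 0x202
  B := 0x106a100031a0198530142180234dc00a622
  V := 0x100000020000004000000800000100469b
  U := 0x1000000
  F := 0x8
  Y := 0x32000016400002c9000058000000000008
  U3 := 0x8000000000000000000000001000000
  F3 := 0x8000000008
  Y3 := 0x31a00085b00005b00000000009b
  P := 0xa000009000009000009000001000009000009000001000009000001000001000008000000000000000000000000000009000009000001000009000001000001000009000001000001000001000008000000000000000000000008000000000000000008000000000008000020000000000020000000000000000020000000000000000000000020000004000004000004000024000004000004000024000004000024000024000000000000000000000000000020000004000004000024000004000024000024000004000024000024000024000023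
  c0 := 14
  fx := [0, 71]

/-- the matrix of the element of order `5` -/
def s65 : Matrix (Fin 6) (Fin 6) ℤ :=
  !![-1, 0, -1, -1, -1, 0;
    0, 1, 0, 1, 1, 0;
    1, 0, 0, 0, 0, 0;
    0, 0, 1, 0, 0, 0;
    0, 0, 0, 1, 0, 0;
    0, 0, 0, 0, 1, 1]

theorem ok65 : c65.Ok 5 6 :=
  ⟨pi_of (by decide +kernel), a1_of (by decide +kernel), by decide +kernel, all2 (by decide +kernel),
    by decide +kernel, hB_of (by decide +kernel), by decide +kernel, all2 (by decide +kernel),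
    by decide +kernel, all2 (by decide +kernel), p3_of (by decide +kernel), b3_of (by decide +kernel), by decide +kernel⟩

theorem lt65 : LtX hpE6 5 :=
  ltX_of hpE6 (by norm_num) card_W_E6 (by norm_num) (by norm_num) ok65 (by decide +kernel) (by decide +kernel) [0, 2, 3, 4] (S := s65)
    (prod_eq_of isRows_E6 _ (by decide +kernel)) (prod_eq_of isRows_E6 _ (by decide +kernel)) (by decide +kernel)
    (all2 (by decide +kernel))

/-- the tables, `n = 7`, `l = 5` -/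
def c75 : Ce where
  N := 126
  RT := 0x538d20538d105389105369105269104a69100a69105368905268904a68900a68905248904a48900a48904948900948900148905244904a44900a44904944900944900144904924900924900124900024904924100924100124100024100004100000105244804a44800a44804944800944800144804924800924800124800024804920800920800120800020800000804924000924000124000024000004004920000920000120000020004900000900000100004800000800004000010000002000012000000400002400012400000080000480002480012480000010000090000490002490012490000002000082000482002482012482000092000492002492012492000472002472012472002372012372011b72000000400010400090400490402490412490400092400492402492412492400472402472412472402372412372411b7240046e40246e41246e40236e41236e411b6e40234e41234e411b4e411a4e40234dc1234dc11b4dc11a4dc11a2dc11a29c11a29b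
  S := 0x40000008000001208000040000001000200000924
  PI := 0x767d7c7b7574737a7271706c6b6a6261605c5b5a4d4c4b4847462f4443422e2a1a7978776f6e6d6968675f5958574a456665645e5d5655544952515041403f3e3d3c2d2c2b34292827201f19181738332625241e161514100f0e06050463534f3b3a394e3736353231302322211d1c1b1312110d0c0b030a090802010007
  TC := 0x400100000c00006000030000420000420000420000180000084000084000084000010800010800010800430800430800430800002100002100002100404000404000404000010100010100010100024900086100086100086100004100020900000100100400100400100400184400184400184400020400020400020400020800422100422100422100024100020000080800080800080800080400000800102000102000102000004000110c00110c00110c00000000000000000000000000000000000000406100406100406100010000400800400800400800002000020100022000022000022000080000090400180c00180c00180c00082000080100080100080100430100430100430100400100400100400100000400082400010400030c00030c00030c00092400004400004400004400110000110000110000000c00000c00000c001860001860001860000060000060000060000300000300000300004200001800001800001800000840000108000021001004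
  r0 := 93
  TD := 0x24000072400024a00030000000c
  s0 := 0x200
  B := 0x1106a10a031a0008530cc4cc0a166311a30a0538d2
  V := 0x1000000200000040000008000001
  U := 0x8000001000019000000000000000000000000
  F := 0x1a000008000
  Y := 0x4400000000000000004520000884000810000102
  U3 := 0x40000008000001000000000000000000000000
  F3 := 0x40000008000001000
  Y3 := 0x3018003043003010003083
  P := 0x5300005300005300005300005200004a00000a00005300005200004a00000a00005200004a00000a00004900000900000100005200004a00000a00004900000900000100004900000900000100000000004900000900000100000000000000000000005200004a00000a00004900000900000100004900000900000100000000004900000900000100000000000000004900000900000100000000000000004900000900000100000000004900000900000100004800000800004000010000002000012000000400002400012400000000000400002400012400000000000000000400002400012400000000000000000400002400012400000000000400002400012400000400002400012400002300012300011b00000000000000000000000400002400012400000000000400002400012400000400002400012400002300012300011b00000400002400012400002300012300011b00002300012300011b00011a00002300012300011b00011a00011a00011a00011a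
  c0 := 20
  fx := [60, 61, 62, 63, 64, 65]

/-- the matrix of the element of order `5` -/
def s75 : Matrix (Fin 7) (Fin 7) ℤ :=
  !![-1, -1, -1, -1, 0, 0, 0;
    0, 0, 0, 1, 0, 0, 0;
    1, 0, 0, 0, 0, 0, 0;
    0, 0, 1, 0, 0, 0, 0;
    0, 1, 0, 1, 1, 0, 0;
    0, 0, 0, 0, 0, 1, 0;
    0, 0, 0, 0, 0, 0, 1]

theorem ok75 : c75.Ok 5 7 :=
  ⟨pi_of (by decide +kernel), a1_of (by decide +kernel), by decide +kernel, all2 (by decide +kernel),
    by decide +kernel, hB_of (by decide +kernel), by decide +kernel, all2 (by decide +kernel),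
    by decide +kernel, all2 (by decide +kernel), p3_of (by decide +kernel), b3_of (by decide +kernel), by decide +kernel⟩

theorem lt75 : LtX hpE7 5 :=
  ltX_of hpE7 (by norm_num) card_W_E7 (by norm_num) (by norm_num) ok75 (by decide +kernel) (by decide +kernel) [0, 2, 3, 1] (S := s75)
    (prod_eq_of isRows_E7 _ (by decide +kernel)) (prod_eq_of isRows_E7 _ (by decide +kernel)) (by decide +kernel)
    (all2 (by decide +kernel))

/-- the tables, `n = 7`, `l = 7` -/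
def c77 : Ce where
  N := 126
  RT := 0x538d20538d105389105369105269104a69100a69105368905268904a68900a68905248904a48900a48904948900948900148905244904a44900a44904944900944900144904924900924900124900024904924100924100124100024100004100000105244804a44800a4480494480094480014480492480092480012480002480492080092080012080002080000080492400092400012400002400000400492000092000012000002000490000090000010000480000080000400001800000300001b00000060000360001b6000000c00006c00036c001b6c00000180000d80006d80036d801b6d80000030000c30006c30036c301b6c30000db0006db0036db01b6db0006bb0036bb01b6bb0035bb01b5bb01adbb0000006000186000d86006d86036d861b6d86000db6006db6036db61b6db6006bb6036bb61b6bb6035bb61b5bb61adbb6006b76036b761b6b76035b761b5b761adb760359761b59761ad9761ac97603596e1b596e1ad96e1ac96e1ac76e1ac72e1ac72d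
  S := 0x80000010000002000000400000010492081b6d86
  PI := 0x777d7c7b7a797873706e6d6a68676564635a585755545351504f4e3e3c3935301b76757472716f6c6b69665c5b59565261605f5e5d4c4b4a494746454342403d3b3a38373634333231201f1e1d1c2b27242221171412110e0c0b090807624d4844413f2f2e2d2c2a29282625231a1918161513100f0d0a05040302010006
  TC := 0x18000100000e000070000380001c0000e0000700001803810c47000e310007007000038e1800080188e018e00101c62000e00e0c401c000230180071008c0003000100311c0e00c4071c000038c4181c01009249001041000201009049008209000001001c0e023803118803001c7000004607000e0200e300118004600010062300e07011c01800e380100718070380008208001008006006030c06000008008040030030008241000040009209030186000200009041001000008000030000006000036186000c00008041036c36000180030d86008008030180000030008201001001006030030c30188c400c08e0031c400e30200311880c081c18100000604001811c1880310001810063880e060401c604006231000006030c360361b6000c06006186036db604620600470318e2001181030040e300800603020004018e000c08103023031031023818071006020718040030000c7118818811c0c01038c0040c46188000031000006200000c40000188000031040006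
  r0 := 93
  TD := 0x380001c0000e00002edb600924a00924000000e
  s0 := 0x40000
  B := 0x1566a90a5d1a1ac58b0f2a740a63a3159d020538d2
  V := 0x40000008000001000000200000040000008000001
  U := 0x0
  F := 0x0
  Y := 0xb0000196000032c000065b0000c86000c10000182
  U3 := 0x1000000
  F3 := 0x8
  Y3 := 0xa691036d12006d12000d12000112000000000152
  P := 0x2000002000002000002000002000002000002000001000001000001000001000001000001000001000001000001000001000001000001000001000001000001000001000001000001000001000001000000000000000000000000000000000000000001000001000001000001000001000001000001000001000001000001000001000001000001000001000001000000000000000000000000000000000000000000000000000000000000000000000000000000000000000000000000000000000000000000000000000000000000000000000000000000000000000000000000000000000000000006000006000006000006000006000006000006000006000006000006000006000006000006000006000006000000000000000000000000000000000000000006000006000006000006000006000006000006000006000006000006000006000006000006000006000006000006000006000006000006000006000005000005000005000005000005000005000005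
  c0 := 72
  fx := []

/-- the matrix of the element of order `7` -/
def s77 : Matrix (Fin 7) (Fin 7) ℤ :=
  !![-1, 0, -1, -1, -1, -1, -1;
    0, 1, 0, 1, 1, 1, 1;
    1, 0, 0, 0, 0, 0, 0;
    0, 0, 1, 0, 0, 0, 0;
    0, 0, 0, 1, 0, 0, 0;
    0, 0, 0, 0, 1, 0, 0;
    0, 0, 0, 0, 0, 1, 0]

theorem ok77 : c77.Ok 7 7 :=
  ⟨pi_of (by decide +kernel), a1_of (by decide +kernel), by decide +kernel, all2 (by decide +kernel),
    by decide +kernel, hB_of (by decide +kernel), by decide +kernel, all2 (by decide +kernel),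
    by decide +kernel, all2 (by decide +kernel), p3_of (by decide +kernel), b3_of (by decide +kernel), by decide +kernel⟩

theorem lt77 : LtX hpE7 7 :=
  ltX_of hpE7 (by norm_num) card_W_E7 (by norm_num) (by norm_num) ok77 (by decide +kernel) (by decide +kernel) [0, 2, 3, 4, 5, 6] (S := s77)
    (prod_eq_of isRows_E7 _ (by decide +kernel)) (prod_eq_of isRows_E7 _ (by decide +kernel)) (by decide +kernel)
    (all2 (by decide +kernel))

/-- the tables, `n = 8`, `l = 7` -/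
def c87 : Ce where
  N := 240
  RT := 0x4e5d1a2e5d1a2a5d1a29dd1a29cd1a29cb1a29cada29cb1229cad229c8d229b8d22938d22538d20538d229cad929cad129c8d129b8d12938d12538d10538d129c89129b89129389125389105389129b69129369125369105369129269125269105269124a69104a69100a69129b68929368925368905368929268925268905268924a68904a68900a68929248925248905248924a48904a48900a48924948904948900948900148929244925244905244924a44904a44900a44924944904944900944900144924924904924900924900124900024924924104924100924100124100024100004100000129244825244805244824a44804a44800a448249448049448009448001448249248049248009248001248000248249208049208009208001208000208000008249240049240009240001240000240000040249200049200009200001200000200249000049000009000001000248000048000008000240000040000200000c00000180000d800000300001b0000db00000060000360001b6000db6000000c00006c00036c001b6c00db6c00000180000d80006d80036d801b6d80db6d80000030000c30006c30036c301b6c30db6c30000db000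6db0036db01b6db0db6db0006bb0036bb01b6bb0db6bb0035bb01b5bb0db5bb01adbb0dadbb0d6dbb0000006000186000d86006d86036d861b6d86db6d86000db6006db6036db61b6db6db6db6006bb6036bb61b6bb6db6bb6035bb61b5bb6db5bb61adbb6dadbb6d6dbb6006b76036b761b6b76db6b76035b761b5b76db5b761adb76dadb76d6db760359761b5976db59761ad976dad976d6d9761ac976dac976d6c976d6497603596e1b596edb596e1ad96edad96ed6d96e1ac96edac96ed6c96ed6496e1ac76edac76ed6c76ed6476ed6376e1ac72edac72ed6c72ed6472ed6372ed6352ed635261ac72ddac72dd6c72dd6472dd6372dd6352dd634edd63525d634e5d632e5d622e5d5a2e5d1a2e5b1a2e5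
  S := 0x2400000080000010000002000000400000010492081b6d86
  PI := 0xefedecebeae9e1e3dcd7d3d0cecceee8e7e6e5e4e2e0dfdedddbdad9d8d6d5d4d2d1cfcdc9c6c4c2c0bebcbbb9b8b6b4b2b1afaeadabaaa9a09e9c9b99989795949392908f8e8d7876736f6a6448cbcac8c7c5c3c1bfbdbab7b5b3b0aca19f9d9a9691a8a6a5a4a3a28c8a89888786848382817f7e7d7b7a75747271706e6d6c6b6968676665634d4c4b4a49475e595552504e433f3c3a383532302e2c2a28272524a78b85807c79776261605f5d5c5b5a5857565453514f4645444241403e3d3b3937363433312f2d2b292622201e1d1b1a19171615141211100f0d0b0a0908070123211f1c18130c0e060504030200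
  TC := 0x188000031000006200000c4000018800003118e388030231180200000c01188c08031c71180001040006071c4618118800100600600804604600000e18e231008c4600803003004000007007118e046230040180000380188c71031181001c0004638e00e000070000181c7100e04607038e180381180040181c080c470018e0710e310007007000818003000800038e0303811800080188e0071c0e18e00101c62000e00e1811810010300c401c006001000230180071046070008c0003000100311c18e3810e00c4071c000038c4181c0118000100924900104100020100904900820900000100e38e070230001c0e000206023803118803040c00001c7000004607000e008c0e0200e3001180046000100623071c7000e07011c01800e38010071807038000000e008208001008006006030c06000008000070008040030030008241000040000380009209030186000200001c0000904100100000e000008000070000188000030000031000006000036186006200000c00008041036c36000c40000180030d86008008030180000188000030008201001001006030030c30000031188c400c08e0031c400e302003118818e3880c081c18100000604001811c03023118803100018100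63881802000e060401c604000c01006231188c08031c71000006030c360361b6000c06006186036db604000604620600470318e200118103071c460040e300800603020018118804018e000c0800100610302300600804604603103102381807100618e231020718040030008c46000c7100803003004018818811c0c007118e1038c0046230040180040c46188c7103118104638e188000031000181c7100620000e04607038e000c40180040181c0818e071000188008180030008030381071c0e00003118118100103000600104607018e38118000104000600e38e070230000206040c00008c0e071c7000000e000070000380001c0000e000070000000000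
  r0 := 162
  TD := 0x40000380001c0000e00002edb600924a00924000000e
  s0 := 0x40002
  B := 0x3566a9ae5d1a53458bd63a747952e5531628ace96629ca32
  V := 0x4000000800000100000020000004000000800000119532a
  U := 0x1000000000000000000000000000000000000000000
  F := 0x200000
  Y := 0x16500002ca00005940000b2d000160000144000028
  U3 := 0x8000000000000000000000000000000000001000000
  F3 := 0x200000000008
  Y3 := 0xa691036d12006d12000d12000112000000000152
  P := 0x1300000b00000b00000b00000b00000b00000b00000a00000a00000a00000a00000a00000a00000200000b00000a00000a00000a00000a00000a00000200000a00000a00000a00000a00000200000a00000a00000a00000200000a00000a00000200000a0000020000020000090000090000090000010000090000090000010000090000010000010000090000090000010000090000010000010000090000010000010000010000090000090000010000090000010000010000090000010000010000010000090000010000010000010000010000080000000000000000000000000000000000000000090000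0900000100000900000100000100000900000100000100000100000900000100000100000100000100000900000100000100000100000100000100000800000000000000000000000000000000000800000000000000000000000000000800000000000000000000000800000000000000000800000000000800003000000000003000000000000000003000000000000000000000003000000000000000000000000000003000000000000000000000000000000000003000000600000600000600000600000600003600000600000600000600000600003600000600000600000600003600000600000600003600000600003600003600000000000000000000000000000000000000003000000600000600000600000600003600000600000600000600003600000600000600003600000600003600003600000600000600000600003600000600000600003600000600003600003600000600000600003600000600003600003600000600003600003600003600000500000500003500000500003500003500000500003500003500003500000500003500003500003500003500000500003500003500003500003500003500003400000500003500003500003500003500003500003500003400003400003400003400003400003400002c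
  c0 := 46
  fx := [0, 239]

/-- the matrix of the element of order `7` -/
def s87 : Matrix (Fin 8) (Fin 8) ℤ :=
  !![-1, 0, -1, -1, -1, -1, -1, 0;
    0, 1, 0, 1, 1, 1, 1, 0;
    1, 0, 0, 0, 0, 0, 0, 0;
    0, 0, 1, 0, 0, 0, 0, 0;
    0, 0, 0, 1, 0, 0, 0, 0;
    0, 0, 0, 0, 1, 0, 0, 0;
    0, 0, 0, 0, 0, 1, 0, 0;
    0, 0, 0, 0, 0, 0, 1, 1]

theorem ok87 : c87.Ok 7 8 :=
  ⟨pi_of (by decide +kernel), a1_of (by decide +kernel), by decide +kernel, all2 (by decide +kernel),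
    by decide +kernel, hB_of (by decide +kernel), by decide +kernel, all2 (by decide +kernel),
    by decide +kernel, all2 (by decide +kernel), p3_of (by decide +kernel), b3_of (by decide +kernel), by decide +kernel⟩

theorem lt87 : LtX hpE8 7 :=
  ltX_of hpE8 (by norm_num) card_W_E8 (by norm_num) (by norm_num) ok87 (by decide +kernel) (by decide +kernel) [0, 2, 3, 4, 5, 6] (S := s87)
    (prod_eq_of isRows_E8 _ (by decide +kernel)) (prod_eq_of isRows_E8 _ (by decide +kernel)) (by decide +kernel)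
    (all2 (by decide +kernel))

end Lat

/-- **the four lattice conditions** -/
theorem boxLat : BoxLat := ⟨Lat.lt65, Lat.lt75, Lat.lt77, Lat.lt87⟩

end Cfsg.Agent.BZ.Ex
end
end

-- part: BZ/X/F42
section
set_option linter.all false

-- part: BZ/X/F42C
section
/-!
# BZ, the cover `2.F₄(2)`: from a faithful character of degree at most 52 to the degree 46800 (helper20; plan of helper84)
-/

set_option autoImplicit false
set_option maxRecDepth 100000

namespace Cfsg.Agent.BZ.X.F42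

open Cfsg Subgroup Cfsg.Agent.Characters.Core Cfsg.Agent.OddOrderCharacters.VChar Cfsg.Agent.TAB Cfsg.Agent.TAB.Eng
open Cfsg.Agent.TAB.Use Cfsg.Agent.TAB.F42 Cfsg.Agent.BZ.C6
open scoped ComplexConjugate

/-- the values of the row `j` -/
noncomputable def vF (j t : ℕ) : ℤ := nth (Sm2.rw' rA rB j) t

/-- the square of the character of degree 52 -/
noncomputable def qF (t : ℕ) : ℤ := 1 + vF 4 t + vF 5 t

private noncomputable def _root_.Cfsg.Agent.LsF.f7ffabe_0 : {f // @Cfsg.Agent.TAB.Sm2.rw' = f} := ⟨_, by first | (delta Cfsg.Agent.TAB.Sm2.rw'; rewrite [Cfsg.Agent.LsF.lappend_pat, Cfsg.Agent.LsF.getD_eq]; exact rfl) | exact rfl⟩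
private noncomputable def _root_.Cfsg.Agent.LsF.f7ffabe_1 : {f // @Cfsg.Agent.BZ.X.F42.vF = f} := ⟨_, by first | (delta Cfsg.Agent.BZ.X.F42.vF; rewrite [Cfsg.Agent.LsF.f7ffabe_0.2]; exact rfl) | exact rfl⟩
private noncomputable def _root_.Cfsg.Agent.LsF.f7ffabe_2 : {f // @Cfsg.Agent.TAB.Eng.look = f} := ⟨_, by first | (delta Cfsg.Agent.TAB.Eng.look List.brecOn List.brecOn.go Cfsg.Agent.TAB.Eng.look._f; rewrite [Cfsg.Agent.LsF.instDecEq_eq, Cfsg.Agent.LsF.ite_eq]; (try delta Cfsg.Agent.TAB.Eng.look.match_1); (try delta List.casesOn); first | dsimp -zeta only | exact rfl) | exact rfl⟩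
private noncomputable def _root_.Cfsg.Agent.LsF.f7ffabe_3 : {f // @Cfsg.Agent.TAB.Eng.Dat.pw = f} := ⟨_, by first | (delta Cfsg.Agent.TAB.Eng.Dat.pw; rewrite [Cfsg.Agent.LsF.getD_eq]; exact rfl) | exact rfl⟩
private noncomputable def _root_.Cfsg.Agent.LsF.f7ffabe_4 : {f // @Cfsg.Agent.TAB.Eng.Dat.ord = f} := ⟨_, by first | (delta Cfsg.Agent.TAB.Eng.Dat.ord; rewrite [Cfsg.Agent.LsF.getD_eq]; exact rfl) | exact rfl⟩
private noncomputable def _root_.Cfsg.Agent.LsF.f7ffabe_5 : {f // @Cfsg.Agent.TAB.Eng.Dat.pwf = f} := ⟨_, by first | (delta Cfsg.Agent.TAB.Eng.Dat.pwf; rewrite [Cfsg.Agent.LsF.f7ffabe_2.2, Cfsg.Agent.LsF.f7ffabe_3.2, Cfsg.Agent.LsF.f7ffabe_4.2]; exact rfl) | exact rfl⟩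
theorem cF1 : (∀ t < D.n, vF 0 t = 1) ∧ 6 ≤ degL.length ∧ (∀ j < degL.length, 6 ≤ j → 2704 < degL.getD j 0) ∧ vF 1 0 = 833 ∧ vF 2 0 = 1105 ∧
    vF 3 0 = 1105 ∧ vF 4 0 = 1326 ∧ vF 5 0 = 1377 ∧ vF 1 1 = -63 ∧ vF 1 69 = 1 ∧ vF 2 69 = 0 ∧ vF 3 69 = 0 ∧ vF 4 69 = 0 ∧
    vF 5 69 = -1 ∧ D.pwf 69 2 = 69 ∧ 69 < D.n := by (refine of_decide_eq_true ?_; (try (rewrite [Cfsg.Agent.LsF.f7ffabe_1.2, Cfsg.Agent.LsF.f7ffabe_5.2, Cfsg.Agent.LsF.ineg_pat, Cfsg.Agent.LsF.instDecEq_eq, Cfsg.Agent.LsF.decLe_eq, Cfsg.Agent.LsF.decLt_eq, Cfsg.Agent.LsF.getD_eq, Cfsg.Agent.LsF.instIDecEq_eq, Cfsg.Agent.LsF.dAnd_eq, Cfsg.Agent.LsF.dBallLT_eq, Cfsg.Agent.LsF.dAllP_eq, Cfsg.Agent.LsF.length_eq, Cfsg.Agent.LsF.decide_eq])); decide +kernel)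

private noncomputable def _root_.Cfsg.Agent.LsF.f7ffabe_6 : {f // @Cfsg.Agent.TAB.Eng.Dat.cnt = f} := ⟨_, by first | (delta Cfsg.Agent.TAB.Eng.Dat.cnt; rewrite [Cfsg.Agent.LsF.getD_eq]; exact rfl) | exact rfl⟩
private noncomputable def _root_.Cfsg.Agent.LsF.f7ffabe_7 : {f // @Cfsg.Agent.TAB.Eng.ipF = f} := ⟨_, by first | (delta Cfsg.Agent.TAB.Eng.ipF; rewrite [Cfsg.Agent.LsF.f7ffabe_6.2, Cfsg.Agent.LsF.imul_pat, Cfsg.Agent.LsF.icast_pat, Cfsg.Agent.LsF.fsum_eq, Cfsg.Agent.LsF.frange_eq, Cfsg.Agent.LsF.iACM_eq]; exact rfl) | exact rfl⟩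
private noncomputable def _root_.Cfsg.Agent.LsF.f7ffabe_8 : {f // @Cfsg.Agent.BZ.X.F42.qF = f} := ⟨_, by first | (delta Cfsg.Agent.BZ.X.F42.qF; rewrite [Cfsg.Agent.LsF.f7ffabe_1.2, Cfsg.Agent.LsF.iadd_pat]; exact rfl) | exact rfl⟩
theorem cF2 : ipF D (fun t => qF t * (vF 4 t + vF 5 t - 2)) (fun t => vF 4 t + vF 5 t - 2) = D.N * 7 := by (refine of_decide_eq_true ?_; (try (rewrite [Cfsg.Agent.LsF.f7ffabe_7.2, Cfsg.Agent.LsF.f7ffabe_8.2, Cfsg.Agent.LsF.f7ffabe_1.2, Cfsg.Agent.LsF.iadd_pat, Cfsg.Agent.LsF.imul_pat, Cfsg.Agent.LsF.isub_pat, Cfsg.Agent.LsF.icast_pat, Cfsg.Agent.LsF.instIDecEq_eq, Cfsg.Agent.LsF.decide_eq])); decide +kernel)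

theorem cF3 : ipF D (fun t => qF (D.pwf t 3) * 1) (fun _ => 1) = D.N * 4 := by (refine of_decide_eq_true ?_; (try (rewrite [Cfsg.Agent.LsF.f7ffabe_7.2, Cfsg.Agent.LsF.f7ffabe_8.2, Cfsg.Agent.LsF.f7ffabe_5.2, Cfsg.Agent.LsF.imul_pat, Cfsg.Agent.LsF.icast_pat, Cfsg.Agent.LsF.instIDecEq_eq, Cfsg.Agent.LsF.decide_eq])); decide +kernel)

theorem cF4 : ∀ (d : Fin 53) (a : Fin 4) (b c e : Fin 3) (f : Fin 2),
    d.1 * d.1 = 1 + 833 * a.1 + 1105 * b.1 + 1105 * c.1 + 1326 * e.1 + 1377 * f.1 →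
      d.1 = 1 ∨ (a.1 = 3 ∧ b.1 + c.1 + e.1 + f.1 = 0) ∨ (d.1 = 52 ∧ a.1 + b.1 + c.1 = 0 ∧ e.1 = 1 ∧ f.1 = 1) := by
  (refine of_decide_eq_true ?_; (try (rewrite [Cfsg.Agent.LsF.nadd_pat, Cfsg.Agent.LsF.nmul_pat, Cfsg.Agent.LsF.instDecEq_eq, Cfsg.Agent.LsF.dAnd_eq, Cfsg.Agent.LsF.dOr_eq, Cfsg.Agent.LsF.dForallFin_eq, Cfsg.Agent.LsF.dAllP_eq, Cfsg.Agent.LsF.decide_eq])); decide +kernel)

variable {K S : Type} [Group K] [Fintype K] [Group S] {T : TD S D} {σ : K →* S} {z : K}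

theorem rowF (h : TAB.F42.Hyp T) : ∃ χ : ℕ → S → ℂ,
    Enum S degL.length (fun j => degL.getD j 0) χ ∧ ∀ j < 6, ∀ g, χ j g = vF j (T.ty g) := by
  obtain ⟨χ, hE, hR⟩ := tab_of h
  refine ⟨χ, deg_eq ▸ hE, fun j hj g => ?_⟩
  have h1 := hR ([(j, 1)], Sm2.rw' rA rB j) (List.mem_append_left _ (List.mem_map.2
    ⟨j, List.mem_range.2 (hj.trans (by decide)), rfl⟩)) g
  rw [← nth_eq] at h1
  simpa [vF] using h1

/-- the even characters of small degree -/
theorem decF (h : TAB.F42.Hyp T) (hs : Function.Surjective σ) (hk : ∀ g, σ g = 1 ↔ g = 1 ∨ g = z) {f : K → ℂ}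
    (hf : IsCharacter K f) (hz : ∀ g, f (g * z) = f g) {e : ℕ} (he : f 1 = e) (h1 : e ≤ 2704) :
    ∃ a b c d i j : ℕ, (∀ g, f g = ((a + b * vF 1 (T.ty (σ g)) + c * vF 2 (T.ty (σ g)) + d * vF 3 (T.ty (σ g)) +
      i * vF 4 (T.ty (σ g)) + j * vF 5 (T.ty (σ g)) : ℤ) : ℂ)) ∧ classInner f 1 = a ∧
      e = a + 833 * b + 1105 * c + 1105 * d + 1326 * i + 1377 * j := by
  have := h.finite
  have := Fintype.ofFinite S
  obtain ⟨χ, hE, hχ⟩ := rowF h
  obtain ⟨c0, c1, c2, d1, d2, d3, d4, d5, -⟩ := cF1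
  obtain ⟨P, hP, h3⟩ := descend σ hs hf fun g k hk' => by
    rcases (hk k).1 hk' with rfl | rfl
    · rw [mul_one]
    · exact hz g
  obtain ⟨m, h4⟩ := small hE hP (e := e) (k := 6) (by rw [← map_one σ, ← h3, he]) c1 fun j hj h => h1.trans_lt (c2 j hj h)
  have h5 : ∀ g, f g = ((m 0 + m 1 * vF 1 (T.ty (σ g)) + m 2 * vF 2 (T.ty (σ g)) + m 3 * vF 3 (T.ty (σ g)) +
      m 4 * vF 4 (T.ty (σ g)) + m 5 * vF 5 (T.ty (σ g)) : ℤ) : ℂ) := fun g => by
    rw [h3, h4]
    simp only [Finset.sum_range_succ, Finset.sum_range_zero, hχ 0 (by norm_num), hχ 1 (by norm_num), hχ 2 (by norm_num),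
      hχ 3 (by norm_num), hχ 4 (by norm_num), hχ 5 (by norm_num), c0 _ (T.lt _)]
    push_cast
    ring
  refine ⟨m 0, m 1, m 2, m 3, m 4, m 5, h5, ?_, ?_⟩
  · have h6 : χ 0 = 1 := funext fun g => by rw [hχ 0 (by norm_num), c0 _ (T.lt _), Int.cast_one, Pi.one_apply]
    have h7 : P = ∑ j ∈ Finset.range 6, (m j : ℂ) • χ j := funext fun g => by
      simpa only [Finset.sum_apply, Pi.smul_apply, smul_eq_mul] using h4 g
    rw [show f = P ∘ σ from funext h3, show (1 : K → ℂ) = χ 0 ∘ σ by rw [h6]; rfl, H829.GowDesc.classInner_comp_surj σ hs,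
      h7, classInner_sum_left, Finset.sum_eq_single 0, classInner_smul_left, classInner_irr_self (hE.irr 0 (by omega)),
      mul_one]
    · intro j hj hne
      have hj' := (Finset.mem_range.1 hj).trans_le c1
      rw [classInner_smul_left, classInner_irr_ne (hE.irr j hj') (hE.irr 0 (by omega))
        fun e => hne (hE.inj _ hj' _ (by omega) e), mul_zero]
    · exact fun h => absurd (Finset.mem_range.2 (by norm_num)) h
  · have h6 := h5 1
    rw [he, map_one, ty_one, d1, d2, d3, d4, d5] at h6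
    have h7 := Int.cast_injective (α := ℂ) ((Int.cast_natCast e).trans h6)
    omega

theorem inner_mul (χ ψ : K → ℂ) : classInner (χ * fun g => conj (ψ g)) 1 = classInner χ ψ := by
  rw [classInner_def, classInner_def]
  simp only [Pi.mul_apply, Pi.one_apply, map_one, mul_one]

/-- **the degree 46800** -/
theorem deg (h : TAB.F42.Hyp T) (hs : Function.Surjective σ) (hk : ∀ g, σ g = 1 ↔ g = 1 ∨ g = z) (hc : z ∈ center K)
    (h2 : z * z = 1) (hp : commutator K = ⊤) {χ : K → ℂ} (hχ : IsIrrCharacter K χ) (hz : ∀ g, χ (g * z) = -χ g) {d : ℕ}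
    (hd : χ 1 = d) (h52 : d ≤ 52) : ∃ η : K → ℂ, IsIrrCharacter K η ∧ η z = -η 1 ∧ η 1 = (46800 : ℕ) := by
  have := h.finite
  obtain ⟨-, -, -, d1, d2, d3, d4, d5, e1, f1, f2, f3, f4, f5, f6, f7⟩ := cF1
  have hX := isIrr_isCharacter hχ
  have hσz : ∀ g, σ (g * z) = σ g := fun g => by rw [map_mul, (hk z).2 (.inr rfl), mul_one]
  have hinh : ∀ t < D.n, ∃ g, T.ty (σ g) = t := fun t ht => by
    obtain ⟨s, h⟩ := h.inh t ht
    obtain ⟨g, rfl⟩ := hs s
    exact ⟨g, h⟩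
  have hpw : ∀ g n, (g * z) ^ n = g ^ n * z ^ n := fun g n => (show Commute g z from mem_center_iff.1 hc g).mul_pow n
  -- the degree and the square
  obtain ⟨rfl, hq⟩ : d = 52 ∧ ∀ g, χ g * conj (χ g) = qF (T.ty (σ g)) := by
    obtain ⟨a, b, c, c', i, j, h3, h4, h5⟩ := decF h hs hk (isCharacter_mul hX (isCharacter_conj hX))
      (fun g => by simp only [Pi.mul_apply, hz, map_neg, neg_mul_neg]) (e := d * d)
      (by rw [Pi.mul_apply, hd, map_natCast, Nat.cast_mul]) (by nlinarith only [h52])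
    rw [inner_mul, classInner_irr_self hχ] at h4
    obtain rfl : a = 1 := by exact_mod_cast h4.symm
    have h6 : d * d ≤ 2704 := by nlinarith only [h52]
    have h7 := cF4 ⟨d, by omega⟩ ⟨b, by omega⟩ ⟨c, by omega⟩ ⟨c', by omega⟩ ⟨i, by omega⟩ ⟨j, by omega⟩ h5
    dsimp only at h7
    obtain rfl | ⟨rfl, rfl, rfl, rfl, rfl⟩ | ⟨rfl, rfl, rfl, rfl, rfl, rfl⟩ : d = 1 ∨ (b = 3 ∧ c = 0 ∧ c' = 0 ∧ i = 0 ∧ j = 0) ∨
        (d = 52 ∧ b = 0 ∧ c = 0 ∧ c' = 0 ∧ i = 1 ∧ j = 1) :=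
      h7.imp_right fun h => h.imp (fun h => by (clear * - h; omega)) fun h => by (clear * - h; omega)
    · have h7 := hz 1
      rw [one_mul, H679.linear_apply_eq_one hχ (hd.trans Nat.cast_one) (hp ▸ mem_top z), hd] at h7
      norm_num at h7
    · obtain ⟨g, hg⟩ := hinh 1 (by omega)
      have h7 := congrArg Complex.re (h3 g)
      rw [Pi.mul_apply, Complex.mul_conj, hg, e1, Complex.ofReal_re, Complex.intCast_re] at h7
      have h8 := Complex.normSq_nonneg (χ g)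
      norm_num [h7] at h8
    · exact ⟨rfl, fun g => (h3 g).trans (by rw [qF]; push_cast; ring)⟩
  have hr : ∀ g, conj (χ g) = χ g := by
    by_contra h3
    obtain ⟨a, b, c, c', i, j, -, h4, h5⟩ := decF h hs hk (isCharacter_mul hX hX)
      (fun g => by simp only [Pi.mul_apply, hz, neg_mul_neg]) (e := 2704) (by rw [Pi.mul_apply, hd]; norm_num) le_rfl
    rw [show χ * χ = χ * fun g => conj (conj (χ g)) by simp only [Complex.conj_conj], inner_mul,
      classInner_irr_ne hχ (isIrr_conj hχ) fun e => h3 fun g => (congrFun e g).symm] at h4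
    obtain rfl : a = 0 := by exact_mod_cast h4.symm
    omega
  have hq' : ∀ g, χ g * χ g = qF (T.ty (σ g)) := fun g => by rw [← hq, hr]
  have hz2 : z ^ 2 = 1 := (pow_two z).trans h2
  have hL : ∀ g, χ (g ^ 2) = χ g * χ g - 2 * vF 4 (T.ty (σ g)) := by
    obtain ⟨a, b, c, c', i, j, h3, -, h5⟩ := decF h hs hk (H447.CTab.ext_two hX)
      (fun g => by simp only [hpw, hz2, mul_one, hz, neg_mul_neg]) (e := 1326) (by simp only [one_pow, hd]; norm_num)
      (by norm_num)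
    obtain ⟨g, hg⟩ := hinh 69 f7
    have h6 : ∀ g, T.ty (σ g) = 69 → χ g = 0 := fun g hg => mul_self_eq_zero.1 (by rw [hq', hg, qF, f4, f5]; norm_num)
    have h7 := h3 g
    rw [h6 g hg, h6 (g ^ 2) (by rw [map_pow, T.pow, hg, f6]), hg, f1, f2, f3, f4, f5] at h7
    have h8 : (0 : ℤ) = a + b * 1 + c * 0 + c' * 0 + i * 0 + j * -1 := by
      refine Int.cast_injective (α := ℂ) (Eq.trans ?_ h7)
      norm_num
    obtain ⟨rfl, rfl, rfl, rfl, rfl, rfl⟩ : a = 0 ∧ b = 0 ∧ c = 0 ∧ c' = 0 ∧ i = 1 ∧ j = 0 := by (clear * - h5 h8; omega)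
    intro g
    have h9 := h3 g
    push_cast at h9
    linear_combination -2 * h9
  -- the virtual characters
  obtain ⟨φ, hE, hφ⟩ := rowF h
  have hrow : ∀ j < 6, IsGeneralizedCharacter K fun g => (vF j (T.ty (σ g)) : ℂ) := fun j hj => by
    have h3 := gen_comp σ (gen_of_irr (hE.irr j (hj.trans_le cF1.2.1)))
    rwa [show φ j ∘ σ = _ from funext fun g => hφ j hj (σ g)] at h3
  have n1 := inner_psi (u := fun t => vF 4 t + vF 5 t - 2) (v := fun t => vF 4 t + vF 5 t - 2) h.1 σ hs hq cF2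
  have n2 := inner_psi (ψ := fun g => χ (g ^ 3)) (q := fun t => qF (D.pwf t 3))
    (u := fun _ => 1) (v := fun _ => 1) h.1 σ hs (fun g => by rw [hq, map_pow, T.pow]) cF3
  obtain ⟨γ, hγ⟩ : ∃ γ : K → ℂ, (fun g => χ g * ((vF 4 (T.ty (σ g)) + vF 5 (T.ty (σ g)) - 2 : ℤ) : ℂ)) = γ := ⟨_, rfl⟩
  obtain ⟨τ, hτ⟩ : ∃ τ : K → ℂ, (fun g => χ (g ^ 3) * ((1 : ℤ) : ℂ)) = τ := ⟨_, rfl⟩
  rw [hγ] at n1
  rw [hτ] at n2
  replace hγ := fun g => (congrFun hγ g).symm
  replace hτ := fun g => (congrFun hτ g).symm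
  have g1 := gen_of_char hX
  have g2 : IsGeneralizedCharacter K γ := by
    have h3 := gen_sub (gen_sub (gen_add (gen_mul g1 (hrow 4 (by norm_num))) (gen_mul g1 (hrow 5 (by norm_num)))) g1) g1
    refine (funext fun g => ?_ : _ = γ) ▸ h3
    simp only [Pi.sub_apply, Pi.add_apply, Pi.mul_apply, hγ]
    push_cast
    ring
  obtain ⟨η, g3, hη⟩ : ∃ η : K → ℂ, IsGeneralizedCharacter K η ∧ τ = γ - (3 : ℂ) • η :=
    ⟨_, gen_sub (gen_sub (gen_mul g1 (hrow 4 (by norm_num))) g1) (gen_of_char (H447.CTab.ext_three hX)), funext fun g => by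
      have h3 := hq' g
      simp only [Pi.sub_apply, Pi.mul_apply, Pi.smul_apply, smul_eq_mul, hγ, hτ, hL, qF] at h3 ⊢
      push_cast at h3 ⊢
      linear_combination χ g * h3⟩
  obtain ⟨n, hn⟩ := gen_inner g3 g3
  obtain ⟨k, hk1⟩ := gen_inner g2 g3
  have hk2 : classInner η γ = k := by rw [← classInner_conj_symm, hk1, map_intCast]
  have h3 := classInner_self_re_nonneg η
  have h4 := classInner_self_re_nonneg ((2 : ℂ) • γ - (3 : ℂ) • η)
  rw [hη] at n2
  simp only [classInner_sub_left, classInner_sub_right, classInner_smul_left, classInner_smul_right, n1, hn, hk1, hk2,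
    map_ofNat] at n2 h4
  rw [hn, Complex.intCast_re, Int.cast_nonneg_iff] at h3
  rw [show (2 : ℂ) * (2 * (7 : ℤ) - 3 * k) - 3 * (2 * k - 3 * n) = ((28 - 12 * k + 9 * n : ℤ) : ℂ) by
    push_cast; ring, Complex.intCast_re, Int.cast_nonneg_iff] at h4
  have h5 : 7 - 6 * k + 9 * n = 4 := Int.cast_injective (α := ℂ) (by push_cast at n2 ⊢; linear_combination n2)
  obtain rfl : n = 1 := by omega
  have h6 : ∀ g, η g = (γ g - τ g) / 3 := fun g => by
    rw [hη, Pi.sub_apply, Pi.smul_apply, smul_eq_mul]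
    ring
  have h7 : η 1 = (46800 : ℕ) := by
    simp only [h6, hγ, hτ, map_one, ty_one, one_pow, hd, d4, d5]
    norm_num
  refine ⟨η, irr_of_norm1 g3 (hn.trans Int.cast_one) h7, ?_, h7⟩
  have h8 := hz 1
  have h9 := hσz 1
  rw [one_mul] at h8 h9
  simp only [h6, hγ, hτ, one_pow, pow_succ z 2, hz2, one_mul, h8, h9]
  ring

end Cfsg.Agent.BZ.X.F42
end

-- part: BZ/X/F42
section
/-!
# BZ, the cover `2.F₄(2)` (helper20)

`model` follows `H65.F4T.exists_cover`; `exists_char` is the lift of a representation in coprime characteristic.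
-/

set_option autoImplicit false
set_option maxRecDepth 10000

namespace Cfsg.Agent.BZ.X.F42

open Cfsg Cfsg.Lie Subgroup Cfsg.Agent.Lib.PackMat Cfsg.Agent.Lib.PackMatGroup Cfsg.Agent.FourTwo.Base Cfsg.Agent.FourTwo.Comm
open Cfsg.Agent.H65.F4T (sg w2 cmg_lt simple_LL)
open Cfsg.Agent.Characters.Core IsLocalRing Polynomial
open scoped commutatorElement

/-- a double cover from lifts of the root elements -/
theorem model {W : Type} [Group W] {ν : W} (hc : ∀ g, ν * g = g * ν) (h2 : ν * ν = 1) (h1 : ν ≠ 1) {X : ℕ → W}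
    (hsq : ∀ r < 48, X r * X r = 1) (hrel : ∀ r < 48, ∀ s < 48, r ≠ s → r + s ≠ 47 →
      X r * X s = X s * ((cmg r s).map X).prod * X r * if sg r s then ν else 1) :
    ∃ (Γ : Subgroup W) (σ : Γ →* LL) (z : Γ), (z : W) = ν ∧ H51.Mult.PCE σ ∧ ∀ g, σ g = 1 ↔ g = 1 ∨ g = z := by
  have hmem : ∀ g, g ∈ zpowers ν ↔ g = 1 ∨ g = ν := H67.mem_zpowers_of_sq h2
  have hN : (zpowers ν).Normal := ⟨fun n hn g => by
    rcases (hmem n).1 hn with rfl | rfl
    · rw [mul_one, mul_inv_cancel]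
      exact one_mem _
    · rwa [← hc, mul_inv_cancel_right]⟩
  set q := QuotientGroup.mk' (zpowers ν) with hq
  have hq1 : ∀ g, q g = 1 ↔ g = 1 ∨ g = ν := fun g => by rw [← MonoidHom.mem_ker, QuotientGroup.ker_mk', hmem]
  obtain ⟨φ, hφ⟩ := FourTwo.Pres.exists_hom (f := fun r => q (X r)) (fun r hr => by rw [← map_mul, hsq r hr, map_one])
    fun r hr s hs h3 h4 => by
      rw [show ((cmg r s).map fun r => q (X r)).prod = q (((cmg r s).map X).prod) by
        rw [map_list_prod, List.map_map]; rfl, ← map_mul, hrel r hr s hs h3 h4, map_mul,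
        (hq1 (ite _ _ _)).2 (by split_ifs; exacts [.inr rfl, .inl rfl]), mul_one, map_mul, map_mul]
  have hcm : ∀ r < 48, ∀ s < 48, r ≠ s → r + s ≠ 47 →
      ⁅X s, X r⁆ = ((cmg r s).map X).prod * if sg r s then ν else 1 := fun r hr s hs h3 h4 => by
    have h5 : (if sg r s then ν else 1) * X r = X r * if sg r s then ν else 1 := by
      split_ifs
      exacts [hc _, by rw [one_mul, mul_one]]
    rw [commutatorElement_def, inv_eq_of_mul_eq_one_right (hsq r hr), inv_eq_of_mul_eq_one_right (hsq s hs),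
      mul_assoc (X s) (X r), hrel r hr s hs h3 h4, mul_assoc (X s * _) (X r), ← h5]
    simp only [← mul_assoc]
    rw [hsq s hs, one_mul, mul_assoc _ (X r), hsq r hr, mul_one]
  have hneg : ∀ H : Subgroup W, (∀ r < 48, ∀ s < 48, ⁅X r, X s⁆ ∈ H) → ν ∈ H := fun H h => by
    have a1 := h 43 (by norm_num) 1 (by norm_num)
    have a2 := h 36 (by norm_num) 0 (by norm_num)
    have a3 := h 33 (by norm_num) 3 (by norm_num)
    rw [hcm _ (by norm_num) _ (by norm_num) (by norm_num) (by norm_num)] at a1 a2 a3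
    rw [show cmg 1 43 = [17] by decide +kernel, show sg 1 43 = false by decide +kernel, List.map_singleton,
      List.prod_singleton, if_neg (by decide), mul_one] at a1
    rw [show cmg 0 36 = [7, 17] by decide +kernel, show sg 0 36 = false by decide +kernel, List.map_cons,
      List.map_singleton, List.prod_cons, List.prod_singleton, if_neg (by decide), mul_one] at a2
    rw [show cmg 3 33 = [7] by decide +kernel, show sg 3 33 = true by decide +kernel, List.map_singleton,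
      List.prod_singleton, if_pos rfl] at a3
    exact (H.mul_mem_cancel_left ((H.mul_mem_cancel_right a1).1 a2)).1 a3
  have hcen : ∀ g, g = 1 ∨ g = ν → ∀ h, g * h = h * g := by
    rintro _ (rfl | rfl) h
    exacts [by rw [one_mul, mul_one], hc h]
  have := simple_LL
  have hinj : Function.Injective φ := by
    rw [← MonoidHom.ker_eq_bot_iff]
    refine (IsSimpleGroup.eq_bot_or_eq_top_of_normal _ inferInstance).resolve_right fun htop => h1 ?_
    refine mem_bot.1 (hneg ⊥ fun r hr s _ => ?_)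
    rw [mem_bot, commutatorElement_eq_one_iff_mul_comm]
    refine hcen _ ?_ _
    rw [← hq1, ← hφ r hr, ← MonoidHom.mem_ker, htop]
    exact mem_top _
  let Γ : Subgroup W := φ.range.comap q
  let ρ : Γ →* φ.range := (q.comp Γ.subtype).codRestrict φ.range fun g => g.2
  let σ : Γ →* LL := (MonoidHom.ofInjective hinj).symm.toMonoidHom.comp ρ
  have hσ : ∀ g : Γ, φ (σ g) = q (g : W) := fun g =>
    congrArg Subtype.val (MulEquiv.apply_symm_apply (MonoidHom.ofInjective hinj) (ρ g))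
  have hker : ∀ g : Γ, σ g = 1 ↔ (g : W) = 1 ∨ (g : W) = ν := fun g => by
    rw [← hq1, ← hσ, ← map_one φ]
    exact hinj.eq_iff.symm
  have hν : ν ∈ Γ := by
    change q ν ∈ φ.range
    rw [(hq1 _).2 (.inr rfl)]
    exact one_mem _
  have hX : ∀ r < 48, X r ∈ Γ := fun r hr => ⟨x r, hφ r hr⟩
  have hs : Function.Surjective σ := fun y => by
    obtain ⟨g, hg⟩ := QuotientGroup.mk'_surjective _ (φ y)
    exact ⟨⟨g, y, hg.symm⟩, hinj ((hσ _).trans hg)⟩
  have hz : σ.ker ≤ center Γ := fun g hg => mem_center_iff.2 fun h => Subtype.ext (hcen _ ((hker g).1 hg) _).symm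
  refine ⟨Γ, σ, ⟨ν, hν⟩, rfl, ⟨hs, hz, H67.perf_of_stem ?_ ⟨hs, hz, fun g hg => ?_⟩⟩, fun g => by
    rw [hker, Subtype.ext_iff, Subtype.ext_iff]; rfl⟩
  · refine (IsSimpleGroup.eq_bot_or_eq_top_of_normal (_root_.commutator LL) inferInstance).resolve_left fun h => ?_
    refine (S1054.result (F := ZMod 2) chevF4 (by simp)).2 ⟨⟨fun a b => ?_⟩⟩
    rw [← commutatorElement_eq_one_iff_mul_comm, ← mem_bot, ← h]
    exact commutator_mem_commutator (mem_top _) (mem_top _)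
  · obtain ⟨k, hk, hk'⟩ := hneg ((commutator Γ).map Γ.subtype) fun r hr s hs =>
      ⟨⁅(⟨X r, hX r hr⟩ : Γ), ⟨X s, hX s hs⟩⁆, commutator_mem_commutator (mem_top _) (mem_top _), by
        rw [map_commutatorElement]; rfl⟩
    rcases (hker g).1 hg with e | e
    · rw [show g = 1 from Subtype.ext e]
      exact one_mem _
    · rwa [show g = k from Subtype.ext (e.trans hk'.symm)]

attribute [local instance] H657.Above.isAlgClosed in
/-- the lift of a representation in coprime characteristic -/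
theorem exists_char {G : Type} [Group G] [Finite G] {p n : ℕ} [hp : Fact p.Prime] (h2 : p ≠ 2) (hG : ¬ p ∣ Nat.card G)
    (ρ : G →* Matrix (Fin n) (Fin n) (ZMod p)) {z : G} (hz : ρ z = -1) :
    ∃ ψ : G → ℂ, IsCharacter G ψ ∧ ψ 1 = n ∧ ψ z = -n := by
  obtain ⟨M, hM⟩ := Blocks.ExistsModular.exists_isPModular hp.out
  obtain ⟨V, hV⟩ := H657.exists_above hM
  have := hV.charP hM
  let f := ZMod.castHom (dvd_refl p) (ResidueField V)
  let σ : Representation (ResidueField V) G (Fin n → ResidueField V) :=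
    (Matrix.toLinAlgEquiv' (n := Fin n) (R := ResidueField V)).toMulEquiv.toMonoidHom.comp
      (f.mapMatrix.toMonoidHom.comp ρ)
  have key : ∀ (g : G) (c : V), H657.IsRU p (c : ℂ) → f.mapMatrix (ρ g) = Matrix.diagonal (fun _ => residue V c) →
      H657.bc p σ g = n * c := fun g c hc h => by
    have h3 : LinearMap.charpoly (σ g) = (X - Polynomial.C (residue V c)) ^ n := by
      change LinearMap.charpoly (Matrix.toLin' (f.mapMatrix (ρ g))) = _
      rw [Matrix.charpoly_toLin', h, Matrix.charpoly_diagonal, Finset.prod_const, Finset.card_fin]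
    rw [H657.bc, h3, roots_pow, roots_X_sub_C, Multiset.map_nsmul, Multiset.sum_nsmul, Multiset.map_singleton,
      Multiset.sum_singleton, H657.lift_residue hc, nsmul_eq_mul]
  refine ⟨_, H699.IBrLift.isCharacter_bc hM hV hG σ, ?_, ?_⟩
  · rw [key 1 1 H671.KGV.isRU_one (by rw [map_one, map_one, map_one, Matrix.diagonal_one]), OneMemClass.coe_one, mul_one]
  · rw [key z (-1) ⟨2, fun h => h2 ((Nat.prime_dvd_prime_iff_eq hp.out Nat.prime_two).1 h), by simp only [_root_.NegMemClass.coe_neg, _root_.OneMemClass.coe_one, _root_.even_two, _root_.Even.neg_pow, _root_.one_pow]⟩ (by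
      rw [hz, map_neg, map_one, map_neg, map_one, ← Matrix.diagonal_one, Matrix.diagonal_neg])]
    simp

/-- an odd constituent -/
theorem odd_const {G : Type} [Group G] [Fintype G] {ψ : G → ℂ} (hψ : IsCharacter G ψ) {z : G} (hz : z ∈ center G)
    (h2 : z * z = 1) (h : ψ z ≠ ψ 1) {n : ℕ} (hn : ψ 1 = n) :
    ∃ χ : G → ℂ, IsIrrCharacter G χ ∧ (∀ g, χ (g * z) = -χ g) ∧ ∃ d : ℕ, χ 1 = d ∧ d ≤ n := by
  have := finite_irr (G := G)
  have := Fintype.ofFinite (IrrCharacter G)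
  obtain ⟨m, hm⟩ := exists_nat_comb hψ
  obtain ⟨χ, h3, h4⟩ : ∃ χ : IrrCharacter G, m χ ≠ 0 ∧ ∀ g, (χ : G → ℂ) (g * z) = -(χ : G → ℂ) g := by
    by_contra! h3
    refine h ?_
    rw [hm, Finset.sum_apply, Finset.sum_apply]
    refine Finset.sum_congr rfl fun χ _ => ?_
    by_cases h4 : m χ = 0
    · rw [h4, zero_smul, Pi.zero_apply, Pi.zero_apply]
    · obtain ⟨g, hg⟩ := h3 χ h4
      rw [Pi.smul_apply, Pi.smul_apply, ← ((C6.sgn χ.2 hz h2).resolve_right fun h5 => hg (h5 g)) 1, one_mul]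
  obtain ⟨d, -, hd⟩ := isIrr_apply_one χ.2
  exact ⟨χ, χ.2, h4, d, hd, C6.deg_le hψ χ.2 hd hn (by rw [hm, classInner_sum_nsmul_irr]; exact Nat.cast_ne_zero.2 h3)⟩

/-- the matrix with index `r` -/
noncomputable def Mt (r : ℕ) : M C := mat C (get L r)

theorem spec {r : ℕ} (hr : r < 48) : okG C (get L r) = true ∧ checkScalar C (cw L [r, r]) 1 0 52 = true ∧
    ∀ s < 48, chkP L r s = true := by
  have h := k_all r hr
  rw [chkR, frc_eq, frc_eq, Bool.and_eq_true, Bool.and_eq_true] at h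
  exact ⟨h.1.1, h.1.2, allBelow_spec h.2⟩

theorem okA {r : ℕ} (hr : r < 49) : okG C (get L r) = true := by
  rcases Nat.lt_succ_iff_lt_or_eq.1 hr with h | rfl
  exacts [(spec h).1, okZ]

theorem sqM {r : ℕ} (hr : r < 48) : Mt r * Mt r = 1 :=
  mat_mul_eq_one good (by decide) (spec hr).1 (spec hr).1 (spec hr).2.1

theorem Mt_Z : Mt 48 = -1 := by
  have h := prod_scalar_of_check good (w := [get L 48]) (c := 30) (by decide) (by decide)
    (fun g hg => List.mem_singleton.1 hg ▸ okZ) scZ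
  rw [List.map_singleton, List.prod_singleton, show ((30 : ℕ) : ZMod C.p) = -1 by decide, neg_smul, one_smul] at h
  exact h

theorem cw_ok' (w : List ℕ) (h : ∀ i ∈ w, i < 49) : (∀ g ∈ cw L w, okG C g = true) ∧ (cw L w).map (mat C) = w.map Mt := by
  induction w with
  | nil => exact ⟨fun _ h => absurd h List.not_mem_nil, rfl⟩
  | cons i w ih =>
    obtain ⟨h1, h2⟩ := List.forall_mem_cons.1 h
    rw [cw_cons, List.map_cons, List.map_cons, (ih h2).2]
    exact ⟨List.forall_mem_cons.2 ⟨okA h1, (ih h2).1⟩, rfl⟩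

theorem cm_lt {r s : ℕ} (hr : r < 48) (hs : s < 48) : ∀ c ∈ cmg r s, c < 48 := fun c hc =>
  of_decide_eq_true (List.all_eq_true.1 (List.all_eq_true.1 (List.all_eq_true.1 cmg_lt r (List.mem_range.2 hr)) s
    (List.mem_range.2 hs)) c hc)

theorem relM {r s : ℕ} (hr : r < 48) (hs : s < 48) (h1 : r ≠ s) (h2 : r + s ≠ 47) :
    Mt r * Mt s = Mt s * ((cmg r s).map Mt).prod * Mt r * if sg r s then -1 else 1 := by
  have h := (spec hr).2.2 s hs
  rw [chkP, show (Nat.beq r s || Nat.beq (r + s) 47) = false from Bool.or_eq_false_iff.2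
    ⟨Bool.eq_false_iff.2 fun h => h1 (Nat.eq_of_beq_eq_true h), Bool.eq_false_iff.2 fun h => h2 (Nat.eq_of_beq_eq_true h)⟩,
    cond_false, frc_eq, frc_eq] at h
  have k1 := cw_ok' [r, s] (List.forall_mem_cons.2 ⟨by omega, List.forall_mem_singleton.2 (by omega)⟩)
  have k2 := cw_ok' (w2 r s) (List.forall_mem_cons.2 ⟨by omega, List.forall_mem_append.2
    ⟨fun c hc => (cm_lt hr hs c hc).trans (by norm_num), List.forall_mem_cons.2 ⟨by omega, by cases sg r s <;> simp⟩⟩⟩)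
  have h5 := prod_eq_of_check good (by decide) k1.1 k2.1 h
  rw [k1.2, k2.2, w2] at h5
  cases hsg : sg r s <;> simpa only [hsg, mul_assoc, Mt_Z, _root_.Bool.false_eq_true, ↓ _root_.reduceIte, _root_.mul_one, _root_.List.map_cons, _root_.List.map_nil, _root_.List.prod_cons, _root_.List.prod_nil, _root_.cond_false, _root_.List.map_append, _root_.List.prod_append, _root_.mul_neg, _root_.cond_true] using h5

/-- the matrices as group elements -/
noncomputable def Xu (r : ℕ) : U C := if h : r < 48 then ⟨Mt r, Mt r, sqM h, sqM h⟩ else 1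

theorem coe_Xu {r : ℕ} (hr : r < 48) : (Xu r : M C) = Mt r := by rw [Xu, dif_pos hr]

theorem relU {r s : ℕ} (hr : r < 48) (hs : s < 48) (h1 : r ≠ s) (h2 : r + s ≠ 47) :
    Xu r * Xu s = Xu s * ((cmg r s).map Xu).prod * Xu r * if sg r s then -1 else 1 := by
  have e : (((cmg r s).map Xu).prod : U C) = ((cmg r s).map Mt).prod := by
    rw [← Units.coeHom_apply, map_list_prod, List.map_map]
    exact congrArg _ (List.map_congr_left fun c hc => coe_Xu (cm_lt hr hs c hc))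
  refine Units.ext ?_
  rw [Units.val_mul, Units.val_mul, Units.val_mul, Units.val_mul, coe_Xu hr, coe_Xu hs, e, relM hr hs h1 h2]
  split_ifs <;> rfl

/-- **`2.F₄(2)`** -/
theorem dg_f42 : ∀ (F : Type) [Field F] [Fintype F], Fintype.card F = 2 →
    Dg 2 ↥(chevF4.group F) fun m => 3 ∣ m ∧ ¬ 81 ∣ m := fun F _ _ hF => by
  obtain ⟨e⟩ := TAB.F42.iso F hF
  obtain ⟨T, hT⟩ := TAB.F42.G.main
  have hne : (-1 : U C) ≠ 1 := fun h => by
    have h1 := congrArg (fun g : U C => (g : M C) ⟨0, by decide⟩ ⟨0, by decide⟩) h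
    simp only [Units.val_neg, Units.val_one, Matrix.neg_apply, Matrix.one_apply_eq] at h1
    exact absurd h1 (by decide)
  obtain ⟨Γ, σ, z, hz, hσ, hk⟩ := model (ν := (-1 : U C)) (fun g => by rw [neg_one_mul, mul_neg_one])
    (by rw [neg_mul_neg, one_mul]) hne (X := Xu)
    (fun r hr => Units.ext (by rw [Units.val_mul, coe_Xu hr, sqM hr, Units.val_one])) fun r hr s hs => relU hr hs
  have := Fintype.ofFinite Γ
  have := hT.finite
  have : Fact (Nat.Prime 31) := ⟨by norm_num⟩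
  have h2 : z * z = 1 := Subtype.ext (by rw [Subgroup.coe_mul, hz, neg_mul_neg, one_mul, Subgroup.coe_one])
  have hc : z ∈ center Γ := hσ.cen ((hk z).2 (.inr rfl))
  obtain ⟨ψ, h3, h4, h5⟩ := exists_char (p := 31) (n := 52) (by norm_num) (fun h => by
    obtain ⟨g, hg⟩ := exists_prime_orderOf_dvd_card' 31 h
    have h6 := C6.ord_or σ (fun k hk' => by rcases (hk k).1 hk' with rfl | rfl; exacts [one_mul _, h2]) g
    have h7 := _root_.orderOf_dvd_natCard (σ g)
    rw [hT.1.1, show orderOf (σ g) = 31 by omega] at h7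
    exact absurd h7 (by decide +kernel)) ((Units.coeHom _).comp Γ.subtype) (z := z) (congrArg Units.val hz)
  obtain ⟨χ, h6, h7, d, h8, h9⟩ := odd_const h3 hc h2 (by rw [h4, h5]; norm_num) h4
  obtain ⟨η, k1, k2, k3⟩ := deg hT hσ.surj hk hc h2 hσ.perf h6 h7 h8 h9
  refine ((G24.dg_model H65.F4T.hasMult_LL hσ (fun h => hne (hz.symm.trans (congrArg Subtype.val h))) hk k1 k2).mono
    fun m hm => ?_).congr e.symm
  rw [hm, charDegree, k3, Complex.natCast_re, Nat.floor_natCast]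
  norm_num

end Cfsg.Agent.BZ.X.F42
end

private theorem dce_7210c732e0be : _root_.True := by
  try have : _root_.True := by simp only [_root_.Cfsg.Agent.BZ.X.F42.Xu.eq_1]
  try have : _root_.True := by simp only [_root_.Cfsg.Agent.BZ.X.F42.chkR.eq_1]
  try have : _root_.True := by simp only [_root_.Cfsg.Agent.BZ.X.F42.vF.eq_1]
  try have : _root_.True := by simp only [_root_.Cfsg.Agent.H657.bc.eq_1]
  try have : _root_.True := by simp only [_root_.Cfsg.Agent.BZ.X.F42.chkP.eq_1]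
  try have : _root_.True := by simp only [_root_.Cfsg.Agent.BZ.X.F42.qF.eq_1]
  try have : _root_.True := by simp only [_root_.Cfsg.Agent.H65.F4T.w2.eq_1]
  exact _root_.True.intro
end

section
prune_inst 0x7fddf9f97fac0ddfffff7ffffed4dffdd0a8ffffefdff9fbffe861df2f9f638289c5fb856ff010fe1ed6e21414b87b13ebffeeffea6bdc7ffffd5ff41ffbee5fe5f6b508519080240ff44ff68bf07f8e7f3fffffffffffffffffffffffffffbeffbfffffffff

-- part: BZ/L/GlueQ
section
set_option linter.all false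

/-!
# BZ / L : the interfaces of the rows from `BoxTA` alone (helper33)
-/

set_option autoImplicit false

namespace Cfsg.Agent.BZ.L

theorem boxLieP' (TA : BoxTA) : BoxLieP := boxLieP_of TA boxT2

theorem boxLie' (TA : BoxTA) : BoxLie := (boxLieP' TA).lie

end Cfsg.Agent.BZ.L
end

-- part: BZ/L/K3/Fin2
section
set_option linter.all false
open scoped Cfsg.Agent.FastGrp

-- part: BZ/L/K3/Fin
section
/-!
# BZ / L / K3 : the assembly (helper33)

`lieP_of`, `boxF_of`, `boxF_ta`.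
-/

set_option autoImplicit false
set_option linter.unusedSectionVars false
set_option maxHeartbeats 400000

namespace Cfsg.Agent.BZ.K3

open Cfsg Cfsg.Lie Subgroup Matrix Cfsg.Agent.HZ.Gen Cfsg.Agent.KM Cfsg.Agent.BZ.Lab Cfsg.Agent.BZ.L Cfsg.Agent.DL Cfsg.Agent.KM.Ht
  Cfsg.Agent.KM.Tor Cfsg.Agent.KZ.DatX Cfsg.Agent.Nodes.RGDChev Cfsg.Agent.Nodes.Reps
open Cfsg.Agent.TO.X.Cn (Pi1)

theorem lieP_of (h : L.BoxLieP) : BoxLieP := by
  intro p _ q d l n c hq
  refine (h p q d l n c hq).mono ?_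
  intro m h r hr k _ _ Y _ N _ _ ρ F G _ X hX _ n' N' α M hF hM Z B hZ hB sB hz
  obtain ⟨y, hy, hN, hs, i, b, D, S, H⟩ := h r hr X hX n' N' α M hF hM Z B hZ hB sB hz
  exact ⟨y, hy, hN, D, S, H.dfB, H.toOu, i, _, b, H.top, H.stb⟩

namespace Fn

variable {p : ℕ} [Fact p.Prime] {k : Type} [Field k] [CharP k p] {Y : Type} [Group Y] {N : Type} [Fintype N]
  [DecidableEq N] {ρ : Y →* GL N k} {F : MulAut Y} {G : Subgroup Y} [IsAlgClosed k] (X : Datum p ρ F G)

/-- the centre does not depend on the frame -/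
theorem zc_eq {y : Y} (hy : y ∈ G) (hN : y⁻¹ * F y ∈ X.NN) :
    Zc X {a | X.Rt a} = Zc (X.conj hy hN) {a | (X.conj hy hN).Rt a} := by
  ext z
  constructor
  · intro hz
    have e : y * z * y⁻¹ = z := by rw [Bz.Zc_cen hz y hy, mul_inv_cancel_right]
    refine ⟨?_, fun a ha => ?_⟩
    · rw [X.conj_T, ← e]
      exact conj_mem_cj.2 hz.1
    · rw [← e, X.conj_χ hy hN a hz.1]
      exact hz.2 a ha
  · intro hz
    have e : y * z * y⁻¹ = z := by rw [Bz.Zc_cen hz y hy, mul_inv_cancel_right]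
    have h1 : z ∈ X.T := by
      have h2 := hz.1
      rwa [X.conj_T, ← e, conj_mem_cj] at h2
    refine ⟨h1, fun a ha => ?_⟩
    rw [← X.conj_χ hy hN a h1, e]
    exact hz.2 a ha

theorem ty_conj {C : ChevalleyDatum} {n₀ : ℕ} {M₀ : CoxeterMatrix (Fin n₀)} {hp : IsType C n₀ M₀} (h : RC.B.Ty X hp) {y : Y}
    (hy : y ∈ G) (hN : y⁻¹ * F y ∈ X.NN) : RC.B.Ty (X.conj hy hN) hp := h

theorem ss_conj (h : ∀ v, Pp X {a | X.Rt a} v → v = 0) {y : Y} (hy : y ∈ G) (hN : y⁻¹ * F y ∈ X.NN) :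
    ∀ v, Pp (X.conj hy hN) {a | (X.conj hy hN).Rt a} v → v = 0 := h

end Fn

/-- **the assembly** -/
theorem boxF_of (hL : BoxLieP) (Ga : BoxGam) (Ge : BoxGe) (Rh : BoxRho) (Kb : BoxKb) {C : ChevalleyDatum} {n₀ : ℕ}
    {M₀ : CoxeterMatrix (Fin n₀)} {hp : IsType C n₀ M₀} {l : ℕ} (h2 : l ≠ 2) (La : Lat hp l) : BoxF hp l := by
  intro p _ k _ _ Y _ N _ _ ρ F G _ X q n c M hlp hpq hX pi ss ty hM
  obtain ⟨d, hq⟩ : ∃ d, Nq p q d l := ⟨_, hM.1, hlp, hpq, rfl⟩
  have q0 : 0 < q := by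
    obtain ⟨f, -, rfl⟩ := hpq
    exact pow_pos (Fact.out : p.Prime).pos f
  refine boxDown X q d l n c M _ hq hX hM le_rfl (((((hL p q d l n c hq).and (Ga p q d l n c hq)).and (Ge p q d l n c hq)).and
    (Rh p q d l n c hq)).mono ?_)
  rintro m ⟨⟨⟨h1, ga⟩, ge⟩, rh⟩ r hr _ n' N' α hF B hB sB hz
  obtain ⟨y, hy, hN, D, S, H⟩ := h1 r hr X hX n' N' α M hF hM _ B le_rfl hB sB hz
  have hX' := hX.conj hy hN
  have pi' := pi.conj hy hN
  have ss' := Fn.ss_conj X ss hy hN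
  have ty' := Fn.ty_conj X ty hy hN
  rw [Fn.zc_eq X hy hN] at H hz ⊢
  generalize X.conj hy hN = X' at H hz hX' pi' ss' ty' ⊢
  obtain ⟨hD, o, i, β, b, t, st⟩ := H
  obtain ⟨A, hA, -⟩ := hX'.mat 1
  rw [X'.Wm_one, one_mul] at hA
  obtain ⟨Γ, gm, lt, h3⟩ := ga r hr X' hX' n' N' α M hF hM A _ D S hA h2 pi' rfl o
  refine ⟨D, hD, ?_⟩
  rcases La X' q n c d _ A Γ pi' ss' ty' q0 hX' hA lt with h | ⟨ε, e, de, ks, w, hw, rot⟩ | h
  · exact h3 (Or.inl h)
  · have sb : Sb X' q d l ε A e := ⟨hA, h2, pi', de, ks⟩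
    obtain ⟨⟨Q₁, kg⟩, sts, on⟩ := ge r hr X' hX' n' N' α M hF hM ε A e sb
    obtain ⟨χ, z, rho⟩ := rh r hr X' hX' n' N' α M hF hM ε A e sb
    obtain ⟨s, hs, x, hx, rp⟩ := (gm w).1 hw
    exact (Kb (hF.fr r hr.rp hr.mr) hM t (Bz.pt_cen le_rfl m l) (Bz.pt_p le_rfl m l) kg sts s (o.res.sp hs) (st s hs)
      (on s w x hx rp rot) χ z rho hz).elim
  · exact h3 (Or.inr h)

theorem boxF_ta (TA : BoxTA) (Ga : BoxGam) (Ge : BoxGe) (Rh : BoxRho) (Kb : BoxKb) {C : ChevalleyDatum} {n₀ : ℕ}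
    {M₀ : CoxeterMatrix (Fin n₀)} {hp : IsType C n₀ M₀} {l : ℕ} (h2 : l ≠ 2) (La : Lat hp l) : BoxF hp l :=
  boxF_of (lieP_of (boxLieP' TA)) Ga Ge Rh Kb h2 La

end Cfsg.Agent.BZ.K3
end

-- part: BZ/L/K3/Fin2
section
/-!
# BZ / L / K3 : the assembly for `Ty2` (helper33)

`boxF2_of`, `boxF3_of`, `allF3_of`.
-/

set_option autoImplicit false
set_option linter.unusedSectionVars false
set_option maxHeartbeats 400000

namespace Cfsg.Agent.BZ.K3

open Cfsg Cfsg.Lie Subgroup Matrix Cfsg.Agent.HZ.Gen Cfsg.Agent.KM Cfsg.Agent.BZ.Lab Cfsg.Agent.BZ.L Cfsg.Agent.DL Cfsg.Agent.KM.Ht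
  Cfsg.Agent.KM.Tor Cfsg.Agent.KZ.DatX Cfsg.Agent.Nodes.RGDChev Cfsg.Agent.Nodes.Reps
open Cfsg.Agent.TO.X.Cn (Pi1)

theorem Fn.ty2_conj {p : ℕ} [Fact p.Prime] {k : Type} [Field k] [CharP k p] {Y : Type} [Group Y] {N : Type} [Fintype N]
    [DecidableEq N] {ρ : Y →* GL N k} {F : MulAut Y} {G : Subgroup Y} [IsAlgClosed k] (X : Datum p ρ F G) {C : ChevalleyDatum}
    {n₀ : ℕ} {M₀ : CoxeterMatrix (Fin n₀)} {hp : IsType C n₀ M₀} (h : Ty2 X hp) {y : Y} (hy : y ∈ G) (hN : y⁻¹ * F y ∈ X.NN) :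
    Ty2 (X.conj hy hN) hp := by
  obtain ⟨Mx, X₀, e, h1, h2⟩ := h
  refine ⟨Mx, X₀, e, h1, fun a b hb => ?_⟩
  rw [conj_cor]
  exact h2 a b hb

theorem boxF2_of (hL : BoxLieP) (Ga : BoxGam) (Ge : BoxGe) (Rh : BoxRho) (Kb : BoxKb) {C : ChevalleyDatum} {n₀ : ℕ}
    {M₀ : CoxeterMatrix (Fin n₀)} {hp : IsType C n₀ M₀} {l : ℕ} (h2 : l ≠ 2) (La : Lat2 hp l) : BoxF2 hp l := by
  intro p _ k _ _ Y _ N _ _ ρ F G _ X q n c M hlp hpq hX pi ss ty hM
  obtain ⟨d, hq⟩ : ∃ d, Nq p q d l := ⟨_, hM.1, hlp, hpq, rfl⟩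
  have q0 : 0 < q := by
    obtain ⟨f, -, rfl⟩ := hpq
    exact pow_pos (Fact.out : p.Prime).pos f
  refine boxDown X q d l n c M _ hq hX hM le_rfl (((((hL p q d l n c hq).and (Ga p q d l n c hq)).and (Ge p q d l n c hq)).and
    (Rh p q d l n c hq)).mono ?_)
  rintro m ⟨⟨⟨h1, ga⟩, ge⟩, rh⟩ r hr _ n' N' α hF B hB sB hz
  obtain ⟨y, hy, hN, D, S, H⟩ := h1 r hr X hX n' N' α M hF hM _ B le_rfl hB sB hz
  have hX' := hX.conj hy hN
  have pi' := pi.conj hy hN
  have ss' := Fn.ss_conj X ss hy hN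
  have ty' := Fn.ty2_conj X ty hy hN
  rw [Fn.zc_eq X hy hN] at H hz ⊢
  generalize X.conj hy hN = X' at H hz hX' pi' ss' ty' ⊢
  obtain ⟨hD, o, i, β, b, t, st⟩ := H
  obtain ⟨A, hA, -⟩ := hX'.mat 1
  rw [X'.Wm_one, one_mul] at hA
  obtain ⟨Γ, gm, lt, h3⟩ := ga r hr X' hX' n' N' α M hF hM A _ D S hA h2 pi' rfl o
  refine ⟨D, hD, ?_⟩
  rcases La X' q n c d _ A Γ pi' ss' ty' q0 hX' hA lt with h | ⟨ε, e, de, ks, w, hw, rot⟩ | h
  · exact h3 (Or.inl h)
  · have sb : Sb X' q d l ε A e := ⟨hA, h2, pi', de, ks⟩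
    obtain ⟨⟨Q₁, kg⟩, sts, on⟩ := ge r hr X' hX' n' N' α M hF hM ε A e sb
    obtain ⟨χ, z, rho⟩ := rh r hr X' hX' n' N' α M hF hM ε A e sb
    obtain ⟨s, hs, x, hx, rp⟩ := (gm w).1 hw
    exact (Kb (hF.fr r hr.rp hr.mr) hM t (Bz.pt_cen le_rfl m l) (Bz.pt_p le_rfl m l) kg sts s (o.res.sp hs) (st s hs)
      (on s w x hx rp rot) χ z rho hz).elim
  · exact h3 (Or.inr h)

theorem boxF3_of (hL : BoxLie) (Ga : BoxGam3) {C : ChevalleyDatum} {n₀ : ℕ} {M₀ : CoxeterMatrix (Fin n₀)} {hp : IsType C n₀ M₀}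
    {l : ℕ} (h2 : l ≠ 2) (La : Lat3 hp l) : BoxF3 hp l := by
  intro p _ k _ _ Y _ N _ _ ρ F G _ X q n c f M hlp hpq hX hf pi ss ty hM
  obtain ⟨d, hq⟩ : ∃ d, Nq p q d l := ⟨_, hM.1, hlp, hpq, rfl⟩
  have q0 : 0 < q := by
    obtain ⟨f, -, rfl⟩ := hpq
    exact pow_pos (Fact.out : p.Prime).pos f
  refine boxDown X q d l n c M _ hq hX hM le_rfl (((hL p q d l n c hq).and (Ga p q d l n c hq)).mono ?_)
  rintro m ⟨h1, ga⟩ r hr _ n' N' α hF B hB sB hz
  obtain ⟨y, hy, hN, D, S, hD, o⟩ := h1 r hr X hX n' N' α M hF hM _ B le_rfl hB sB hz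
  have hX' := hX.conj hy hN
  have pi' := pi.conj hy hN
  have ss' := Fn.ss_conj X ss hy hN
  have ty' := Fn.ty2_conj X ty hy hN
  rw [Fn.zc_eq X hy hN] at o ⊢
  generalize X.conj hy hN = X' at o hX' pi' ss' ty' ⊢
  obtain ⟨A, hA, -⟩ := hX'.mat 1
  rw [X'.Wm_one, one_mul] at hA
  obtain ⟨Γ, -, lt, h3⟩ := ga r hr X' hX' n' N' α M hF hM f A _ D S hA h2 hf pi' rfl o
  exact ⟨D, hD, h3 (La X' q n c d f _ A Γ hf pi' ss' ty' q0 hX' hA lt)⟩

/-- the lattice statements which are used -/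
structure Lats : Prop where
  g2 : Lat2 hpG2 3
  d4 : Lat3 hpD4 3
  f4 : Lat2 hpF4 3
  e6 : Lat hpE6 3
  e7 : Lat hpE7 3
  e8 : Lat hpE8 3
  e85 : Lat hpE8 5

theorem allF3_of (TA : BoxTA) (Ga : BoxGam3) (Ge : BoxGe) (Rh : BoxRho) (Kb : BoxKb) (La : Lats) : AllF3 where
  g2 := boxF2_of (lieP_of (boxLieP' TA)) Ga.gam Ge Rh Kb (by decide) La.g2
  d4 := boxF3_of (boxLie' TA) Ga (by decide) La.d4
  f4 := boxF2_of (lieP_of (boxLieP' TA)) Ga.gam Ge Rh Kb (by decide) La.f4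
  e6 := boxF_ta TA Ga.gam Ge Rh Kb (by decide) La.e6
  e7 := boxF_ta TA Ga.gam Ge Rh Kb (by decide) La.e7
  e8 := boxF_ta TA Ga.gam Ge Rh Kb (by decide) La.e8
  e85 := boxF_ta TA Ga.gam Ge Rh Kb (by decide) La.e85

end Cfsg.Agent.BZ.K3
end
end

-- part: BZ/Asm
section
prune_inst 0x206040001600000000000000900022f4600000000060000058e008040882170300018900a44018001046a284000000000000000940100000000006000118008080805202f2c90100a20097000000000000000000000000000000000000041000000000000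
set_option linter.all false
open scoped Cfsg.Agent.FastGrp

-- part: BZ/A/Main
section
/-!
# BZ, type A (helper65): the towers

* `fr_card`, `fr_det` : the order and the determinants of the defect groups; `frm_eq` : a frame determines the block;
* `boxU`.
-/

set_option autoImplicit false
set_option linter.unusedSectionVars false

namespace Cfsg.Agent.BZ.A

open Cfsg Equiv
open Cfsg.Agent.H577.GLB.Std Cfsg.Agent.H614.GLn.RSt Cfsg.Agent.H623.GU Cfsg.Agent.H112.GLB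
open Cfsg.Agent.H794.EM (vz)
open Cfsg.Agent.Blocks.Basic Cfsg.Agent.H592.Transport
open Cfsg.Agent.RC.A (Sh Fr Frm Amb Cell bb hi shp)
open Cfsg.Agent.KM.Mu (fac_mul fac_mono card_ker_mul)

section

variable {p a : ℕ} [hp : Fact p.Prime] {C Γ Ω Δ : Type} [CommGroup C] [Finite C] [IsCyclic C] [Group Γ] [Finite Γ]
  [Fintype Ω] {S : Sh p a C Ω Δ} {d : Γ →* C} {U P : Subgroup Γ} {α : S.A →* Γ} {π : P →* Perm Ω}

/-- the order of the defect group -/
theorem fr_card (F : Fr d U P α π) :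
    (Nat.card P).factorization p = (Nat.card S.A).factorization p + (Nat.card S.L).factorization p := by
  obtain ⟨T, hT⟩ := F.syl
  have h1 : π.ker = α.range.subgroupOf P := le_antisymm F.ker fun x ⟨w, hw⟩ =>
    (congrArg π (Subtype.ext hw.symm)).trans (RC.A.Grp.pi_one F w)
  rw [← fac_mul π.ker.card_mul_index Nat.card_pos.ne', Subgroup.index_ker, hT,
    Subgroup.card_map_of_injective S.L.subtype_injective, T.card_eq_multiplicity, h1, KM.Mu.card_sub F.le,
    ← Nat.card_congr (MonoidHom.ofInjective F.inj).toEquiv, hp.out.factorization_pow, Finsupp.single_eq_same]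

/-- the determinants of the defect group -/
theorem fr_det (F : Fr d U P α π) (i : Ω) : a ≤ (Nat.card (P.map d)).factorization p := by
  obtain ⟨x, h1, h2⟩ := RC.A.Grp.gen S i
  rw [← hp.out.pow_dvd_iff_le_factorization Nat.card_pos.ne', ← h2, ← RC.A.Grp.d_sg F i x (h1 ▸ pow_orderOf_eq_one x)]
  exact Subgroup.orderOf_dvd_natCard _ ⟨_, F.le ⟨_, rfl⟩, rfl⟩

theorem fr_dvd (F : Fr d U P α π) (h : ¬ IsMulCommutative P) : (Nat.card S.L).factorization p ≠ 0 := fun e => by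
  obtain ⟨T, hT⟩ := F.syl
  have h1 : π.range = ⊥ := by
    rw [← Subgroup.card_eq_one, hT, Subgroup.card_map_of_injective S.L.subtype_injective, T.card_eq_multiplicity, e, pow_zero]
  refine h ⟨⟨fun x y => Subtype.ext ?_⟩⟩
  obtain ⟨v, hv⟩ := F.ker x (h1.le ⟨x, rfl⟩)
  obtain ⟨w, hw⟩ := F.ker y (h1.le ⟨y, rfl⟩)
  rw [Subgroup.coe_mul, Subgroup.coe_mul, ← hv, ← hw, ← map_mul, mul_comm, map_mul]

end

section

variable {F K : Type} [Field F] [Field K] [Algebra F K] {θ : K →*₀ ℂ} {Q : ℤ} {M : ℕ} [NeZero M] {N p : ℕ}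
  {G : ℕ → Type} [∀ n, Group (G n)] [∀ n, Finite (G n)] {A : Amb F K θ Q M N p G} {𝔐 : Ideal AlgInt}
  {Δ : Type} {v : Δ → ZMod M} {cl : ∀ δ : Δ, Cell A 𝔐 (v δ)} {Ω : Type} [Fintype Ω] {lab : Ω → Δ} {n : ℕ}
  {B B' : Set (IrrCharacter (G n))} {ε ε' : (∀ i, (cl (lab i)).W) ≃ₗ[F] (Fin n → F)} {J J' : (∀ i, (cl (lab i)).X) →* G n}
  {ψ ψ' : IrrCharacter (∀ i, (cl (lab i)).X)}

/-- **a frame determines the block** -/
theorem frm_eq [𝔐.IsPrime] (H : Frm cl lab B ε J ψ) (H' : Frm cl lab B' ε' J' ψ') : B = B' := by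
  have := A.cF.finF
  obtain ⟨g₀, hg₀⟩ := H901.Sl.exists_gl (ε'.toLinearMap ∘ₗ ε.symm.toLinearMap) (ε'.injective.comp ε.symm.injective)
  have h5 : ∀ w, g₀.1.mulVec (ε w) = ε' w := fun w => (hg₀ _).trans (congrArg ε' (ε.symm_apply_apply w))
  obtain ⟨g, rfl⟩ := A.rng n g₀ fun x y => by
    obtain ⟨x, rfl⟩ := ε.surjective x
    obtain ⟨y, rfl⟩ := ε.surjective y
    rw [h5, h5, H.form, H'.form]
  obtain rfl : ψ = ψ' := Subtype.ext (funext fun x => (H.val x).trans (H'.val x).symm)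
  have h1 := TID.Red.IndH.tgt (MulAut.conj g) (ι := J) (fun x => by
    rw [MulAut.conj_apply, eq_comm, mul_inv_eq_iff_eq_mul]
    refine A.inj n (H901.Sl.ext_mulVec fun w => ?_)
    obtain ⟨w, rfl⟩ := ε.surjective w
    rw [map_mul, map_mul, Units.val_mul, Units.val_mul, ← Matrix.mulVec_mulVec, ← Matrix.mulVec_mulVec, H.act, h5, h5,
      H'.act]) H'.ind
  rw [H.ind.unique h1]
  ext χ
  rw [← tr_mem_trSet (e := MulAut.conj g) (b := B'), show tr (MulAut.conj g) χ = χ from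
    Subtype.ext (funext fun x => Characters.Core.isIrr_isClassFunction χ.2 x g)]

end

/-- **The towers.** -/
theorem boxU (hL : BoxL) (hZ : BoxZ) (hW : BoxW) : BoxU := by
  intro F K _ _ _ θ Q M _ N p G _ _ A 𝔐 h𝔐 h2 hQ1 hC n hn0 hn
  classical
  have hp := h𝔐.1
  have := Fact.mk hp
  have := Blocks.Local.isPrime_of_isPModular h𝔐
  suffices h : ∀ (B : Set (IrrCharacter (G n))) (P : Subgroup (G n)), IsPBlock 𝔐 B → IsDefectGroup p 𝔐 B P →
      ¬ IsMulCommutative P → ∃ χ ∈ B, (∀ z ∈ A.Z n, ∀ k : ℕ, z ^ p ^ k = 1 → (χ : G n → ℂ) z = (χ : G n → ℂ) 1) ∧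
      (Nat.card (G n)).factorization p < (charDegree (χ : G n → ℂ)).factorization p + (Nat.card P).factorization p ∧
      (4 ≤ (Nat.card (P ⊓ (A.d n).ker : Subgroup (G n))).factorization p → ∀ ϑ : IrrCharacter (A.d n).ker,
        TID.Red.Ov (A.d n).ker.subtype (χ : G n → ℂ) (ϑ : (A.d n).ker → ℂ) →
        (charDegree (χ : G n → ℂ)).factorization p ≤ (charDegree (ϑ : (A.d n).ker → ℂ)).factorization p) by
    refine ⟨fun B P hB hP hna => (h B P hB hP hna).imp fun χ k => ⟨k.1, k.2.1, k.2.2.1⟩, fun B P hB hP hna h4 =>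
      (h B P hB hP hna).imp fun χ k => ⟨k.1, k.2.1, fun ϑ hϑ => ?_⟩⟩
    have a1 := k.2.2.1
    have a2 := k.2.2.2 h4 ϑ hϑ
    have a3 := fac_mul (p := p) (card_ker_mul (A.d n) P) Nat.card_pos.ne'
    have a4 := fac_mul (p := p) (card_ker_mul (A.d n) ⊤) Nat.card_pos.ne'
    have := A.ctx.finK
    have a5 := fac_mono (p := p) (Subgroup.map_mono (f := A.d n) (le_top (a := P)))
    rw [top_inf_eq, Subgroup.card_top] at a4
    omega
  intro B P hB hP hna
  have := A.ctx.finK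
  have := A.cF.finF
  have hQ := A.ctx.unit
  have hbij : (A.t.R n hn).Bij n := A.t.bij n n hn le_rfl
  obtain ⟨χ₀, hχ₀, t, ht, ht'⟩ := (A.t.R n hn).exists_pOnly_mem' h𝔐 le_rfl hbij hB
  have k1 : ∀ i : Σ δ : repsZ Q M, Fin (bsz (t.t δ)), perZ Q M i.1 ≤ N := fun i =>
    ((Nat.le_mul_of_pos_right _ i.2.pos).trans (LV.A.per_mul_le hQ t i.1.2)).trans hn
  let lab : (Σ δ : repsZ Q M, Fin (bsz (t.t δ))) → {δ : ZMod M // Nonempty (Cell A 𝔐 δ)} := fun i =>
    ⟨i.1, hC _ (by_contra fun h => i.2.pos.ne' (ht' _ h)) (k1 i)⟩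
  let cl : ∀ δ : {δ : ZMod M // Nonempty (Cell A 𝔐 δ)}, Cell A 𝔐 δ.1 := fun δ => δ.2.some
  have k2 : ∀ δ ∈ repsZ Q M, ∑ i, (if (lab i).1 = δ then 1 else 0) = bsz (t.t δ) := fun δ hδ => by
    rw [Fintype.sum_sigma, Finset.sum_eq_single ⟨δ, hδ⟩ (fun c _ h => Finset.sum_eq_zero fun i _ =>
      if_neg fun h' => h (Subtype.ext h')) fun h => absurd (Finset.mem_univ _) h,
      Finset.sum_congr rfl fun i _ => if_pos rfl, Finset.sum_const, Finset.card_fin, smul_eq_mul, mul_one]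
  have k2' : ∀ δ ∈ repsZ Q M, Nat.card {i // (lab i).1 = δ} = bsz (t.t δ) := fun δ hδ => by
    rw [← k2 δ hδ, Nat.card_eq_fintype_card, Fintype.card_subtype, Finset.card_filter]
  have hQ0 : Q - 1 ≠ 0 := sub_ne_zero.2 (pow_one Q ▸ H794.EM.pow_ne_one A.ctx.two one_pos)
  have h0 : 0 < vz p (Q - 1) := hp.factorization_pos_of_dvd (Int.natAbs_ne_zero.2 hQ0) (Int.natCast_dvd.1 hQ1)
  have hd : ∀ i, p ^ bb Q M p (lab i).1 ∣ Nat.card Kˣ := fun i => (Nat.ordProj_dvd _ p).trans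
    (A.ctx.card ▸ Int.natAbs_dvd_natAbs.2 (A.ctx.dvd _ (perZ_pos hQ _) (k1 i)))
  have k3 := fun (T : LabZ Q M n n) (hT : SameFam Q M p T.t t.t) => RC.A.boxL Q M p n n hp h2 hQ1 A.ctx.two hQ t T ht' hT _
    (fun i => (lab i).1) (fun i => i.1.2) k2' (shp cl lab h0 hd).L fun σ => forall_congr' fun i => Subtype.ext_iff
  have k4 := RC.A.boxD K θ Q M N p G hp h2 hQ1 A.ctx A.t n hn (A.one n hn) n
  obtain ⟨ε, J, ψ, H⟩ := RC.A.exists_frm RC.A.boxO h𝔐 hQ1 cl _ _ lab rfl (fun i => i.1.2) n hn le_rfl B hB χ₀ hχ₀ t ht ht' k2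
  obtain ⟨α, π, hF⟩ := H.fr (h0 := h0) (hd := hd) (U := ⊥) h𝔐 hn0 hn (fun χ' h => by
    obtain ⟨T, hT, -⟩ := hbij.1 χ'
    rw [A.card]
    exact (k4 χ' T hT).2.trans (Nat.add_le_add_left
      (k3 T ((A.t.R n hn).sameFam_of_mem h𝔐 le_rfl hbij hB h hχ₀ hT ht)).1 _)) hP
    (fun u hu => ⟨1, by rw [Subgroup.mem_bot.1 hu, map_one]; exact Units.ext (by simp [H624.Sl.scl])⟩) IsPGroup.of_bot
  have k5 : (Nat.card (shp cl lab h0 hd).L).factorization p = ∑ δ ∈ repsZ Q M, (bsz (t.t δ)).factorial.factorization p := by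
    rw [RC.A.Lab.card_lab p (fun i => (lab i).1) (shp cl lab h0 hd).L fun σ => forall_congr' fun i => Subtype.ext_iff,
      ← Finset.sum_subset (Finset.subset_univ (repsZ Q M)) fun δ _ h => ?_]
    · exact Finset.sum_congr rfl fun δ hδ => by rw [k2' δ hδ]
    · have : IsEmpty {i // (lab i).1 = δ} := ⟨fun i => h (i.2 ▸ i.1.1.2)⟩
      rw [Nat.card_of_isEmpty, Nat.factorial_zero, Nat.factorization_one, Finsupp.zero_apply]
  have k6 : (Nat.card P).factorization p = hi Q M p t.t := by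
    rw [fr_card hF, RC.A.card_A, hp.factorization_pow, Finsupp.single_eq_same, k5, hi, Finset.sum_add_distrib,
      RC.A.Lab.sum_lab (repsZ Q M) (fun i => (lab i).1) (fun i => i.1.2) (bb Q M p)]
    exact congrArg (· + _) (Finset.sum_congr rfl fun δ hδ => by rw [k2' δ hδ])
  obtain ⟨δ, hδ, k7⟩ := Finset.exists_ne_zero_of_sum_ne_zero (k5 ▸ fr_dvd hF hna)
  have k8 : p ≤ bsz (t.t δ) := hp.dvd_factorial.1 (Nat.dvd_of_factorization_pos k7)
  obtain ⟨T, l1, l2, l3, l4⟩ := hL Q M p n hp h2 hQ1 A.ctx.two hQ (fun k h h' => A.ctx.dvd k h (h'.trans hn)) t ht' δ hδ k8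
  obtain ⟨χ, hT, -⟩ := hbij.2 T
  have hb := isPBlock_blockOf (M := 𝔐) χ
  obtain ⟨χ₁, hχ₁, t₁, ht₁, ht₁'⟩ := (A.t.R n hn).exists_pOnly_mem' h𝔐 le_rfl hbij hb
  obtain ⟨ε', J', ψ', H'⟩ := RC.A.exists_frm RC.A.boxO h𝔐 hQ1 cl _ _ lab rfl (fun i => i.1.2) n hn le_rfl _ hb χ₁ hχ₁ t₁ ht₁ ht₁'
    fun c hc => (k2 c hc).trans (by
      by_cases h : PReg M p c
      · rw [← l1 c h, ← H157.GLB.sfun_of_pOnly hp ht₁' h,
          ((A.t.R n hn).sameFam_of_mem h𝔐 le_rfl hbij hb (mem_blockOf_self χ) hχ₁ hT ht₁ c h).1]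
      · rw [ht' c h, ht₁' c h])
  refine ⟨χ, frm_eq H H' ▸ mem_blockOf_self χ, hZ F K θ Q M N p G A n hn hn0 χ T hT l3, ?_,
    fun h4 => hW F K θ Q M N p G A hp hQ1 n hn hn0 χ T hT fun h => ?_⟩
  · have := (k4 χ T hT).2
    rw [A.card, k6]
    omega
  · have a1 := (l4 h).1
    have a2 := fr_det hF ⟨⟨δ, hδ⟩, ⟨0, hp.pos.trans_le k8⟩⟩
    have a3 := fac_mul (p := p) (card_ker_mul (A.d n) P) Nat.card_pos.ne'
    omega

end Cfsg.Agent.BZ.A
end

-- part: BZ/A/Fin
section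
/-!
# BZ, type A, odd primes (helper65): the rows

`towers`, `psl_odd`, `psu_odd`.
-/

set_option autoImplicit false

namespace Cfsg.Agent.BZ.A

open Cfsg Cfsg.Agent.KM

/-- the towers -/
theorem towers : BoxU := boxU boxL boxZ boxW

/-- **the linear groups, odd primes** -/
theorem psl_odd : For RowP (Od CPsl) := by
  rintro l hl S _ _ _ hS ⟨h2, F, _, _, n, hF, hn, h4, ⟨e⟩⟩
  by_cases hg : l ∣ Nat.gcd n (Fintype.card F - 1)
  · exact row_psl towers boxR l S hS ⟨F, _, _, n, h2, hg, hn, h4, ⟨e⟩⟩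
  · exact RowP.of_equiv e (Cl.psl_good h2 hF hn h4 hg)

/-- **the unitary groups, odd primes** -/
theorem psu_odd (h62 : ∀ (F : Type) [Field F] [Fintype F], Fintype.card F = 4 → Cov XP 2 3 (PSU 6 F 2)) : For RowP (Od CPsu) := by
  rintro l hl S _ _ _ hS ⟨h2, F, _, _, n, q, hF, hq, hn, h4, ⟨e⟩⟩
  by_cases hg : l ∣ Nat.gcd n (q + 1)
  · exact row_psu towers boxR h62 l S hS ⟨F, _, _, n, q, h2, hg, hq, hn, h4, ⟨e⟩⟩
  · exact Cl.psu_good D.lieP h2 hS hF hq hn h4 hg e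

end Cfsg.Agent.BZ.A
end

-- part: BZ/A/Main2
section
/-!
# BZ, type A, the prime `2` (helper65): the towers

`boxU2`.
-/

set_option autoImplicit false

namespace Cfsg.Agent.BZ.A

open Cfsg
open Cfsg.Agent.H577.GLB.Std Cfsg.Agent.H614.GLn.RSt Cfsg.Agent.H623.GU Cfsg.Agent.H112.GLB
open Cfsg.Agent.H794.EM (vz)
open Cfsg.Agent.Blocks.Basic
open Cfsg.Agent.RC.A (Amb bb lo)
open Cfsg.Agent.KM.Mu (fac_mul fac_mono card_ker_mul)

theorem ht_of {p : ℕ} [Fact p.Prime] {𝔐 : Ideal AlgInt} {Γ C : Type} [Group Γ] [Finite Γ] [Group C] [Finite C] (d : Γ →* C)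
    {Z : Set Γ} (h : ∀ (B : Set (IrrCharacter Γ)) (P : Subgroup Γ), IsPBlock 𝔐 B → IsDefectGroup p 𝔐 B P →
      ¬ IsMulCommutative P → ∃ χ ∈ B, (∀ z ∈ Z, ∀ k : ℕ, z ^ p ^ k = 1 → (χ : Γ → ℂ) z = (χ : Γ → ℂ) 1) ∧
      (Nat.card Γ).factorization p < (charDegree (χ : Γ → ℂ)).factorization p + (Nat.card P).factorization p ∧
      (4 ≤ (Nat.card (P ⊓ d.ker : Subgroup Γ)).factorization p → ∀ ϑ : IrrCharacter d.ker,
        TID.Red.Ov d.ker.subtype (χ : Γ → ℂ) (ϑ : d.ker → ℂ) →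
        (charDegree (χ : Γ → ℂ)).factorization p ≤ (charDegree (ϑ : d.ker → ℂ)).factorization p)) :
    Ht0 p 𝔐 Z ∧ Ht p 𝔐 d.ker Z := by
  refine ⟨fun B P hB hP hna => (h B P hB hP hna).imp fun χ k => ⟨k.1, k.2.1, k.2.2.1⟩, fun B P hB hP hna h4 =>
    (h B P hB hP hna).imp fun χ k => ⟨k.1, k.2.1, fun ϑ hϑ => ?_⟩⟩
  have a1 := k.2.2.1
  have a2 := k.2.2.2 h4 ϑ hϑ
  have a3 := fac_mul (p := p) (card_ker_mul d P) Nat.card_pos.ne'
  have a4 := fac_mul (p := p) (card_ker_mul d ⊤) Nat.card_pos.ne'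
  have a5 := fac_mono (p := p) (Subgroup.map_mono (f := d) (le_top (a := P)))
  rw [top_inf_eq, Subgroup.card_top] at a4
  omega

/-- **The towers.** -/
theorem boxU2 (hD : BoxD2) (hH : BoxH2) (hL : BoxL2) (hZ : BoxZ) (hW : BoxW) : BoxU2 := by
  intro F K _ _ _ θ Q M _ N G _ _ A 𝔐 h𝔐 hQ hC n hn0 hn
  have := A.ctx.finK
  have := h𝔐.2.1.isPrime
  have hQ1 : ((2 : ℕ) : ℤ) ∣ Q - 1 := (hQ.sub_odd odd_one).two_dvd
  refine ht_of (A.d n) fun B P hB hP hna => ?_
  obtain ⟨t, ht, h1, Z, h2, h3, h4, h5⟩ := exists_ab h𝔐 hQ1 hC hn0 hn hB hP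
  have hbij : (A.t.R n hn).Bij n := A.t.bij n n hn le_rfl
  have k1 := hD K θ Q M N G hQ A.ctx A.t n hn (A.one n hn) n
  have k2 : (Nat.card P).factorization 2 = blockDefect 2 B := by
    rw [S0908.result 2 𝔐 h𝔐 B hB P hP, Nat.prime_two.factorization_pow, Finsupp.single_eq_same]
  rw [blockDefect, A.card] at k2
  have k3 : (∀ δ, bsz (t.t δ) ≤ 2) → (Nat.card P).factorization 2 ≤ up Q M t.t := fun h => by
    obtain ⟨χ, l1, l2⟩ := Nat.sInf_mem ((isPBlock_nonempty hB).image fun χ : IrrCharacter (G n) =>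
      (charDegree (χ : G n → ℂ)).factorization 2)
    obtain ⟨T, hT, -⟩ := hbij.1 χ
    have a1 := k1 χ T hT
    have a2 := hH Q M n hQ A.ctx.two A.ctx.unit t T ht h ((h1 χ T hT).1 l1)
    rw [k2, ← l2, ← a1]
    exact (Nat.add_sub_cancel_left _ _).trans_le a2
  obtain ⟨δ, hδ, k4⟩ : ∃ δ ∈ repsZ Q M, 2 ≤ bsz (t.t δ) := by
    by_contra! h
    have a1 : ∀ δ, bsz (t.t δ) < 2 := fun δ =>
      H157.GLB.tup_congr t.orb (sameZ_canon δ) ▸ h _ (canon_mem_repsZ A.ctx.unit δ)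
    have a2 : up Q M t.t = lo Q M 2 t.t := Finset.sum_congr rfl fun c _ => by
      rw [Nat.factorial_eq_one.2 (Nat.le_of_lt_succ (a1 c)), Nat.factorization_one, Finsupp.zero_apply, zero_mul, add_zero]
    obtain rfl : Z = P := Subgroup.eq_of_le_of_card_ge h2 (by
      rw [h4, ← a2, S0908.result 2 𝔐 h𝔐 B hB P hP, blockDefect, A.card, ← k2]
      exact Nat.pow_le_pow_right two_pos (k3 fun δ => (a1 δ).le))
    exact hna ⟨⟨fun x y => Subtype.ext (h3 _ x.2 _ y.2)⟩⟩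
  obtain ⟨T₀, T, l1, l2, l3, l4, l5⟩ := hL Q M n hQ A.ctx.two A.ctx.unit (fun k h h' => A.ctx.dvd k h (h'.trans hn)) t ht δ hδ k4
  obtain ⟨χ, hT, -⟩ := hbij.2 T
  obtain ⟨χ₀, hT₀, -⟩ := hbij.2 T₀
  refine ⟨χ, (h1 χ T hT).2 l2, hZ F K θ Q M N 2 G A n hn hn0 χ T hT l4, ?_,
    fun h => hW F K θ Q M N 2 G A Nat.prime_two hQ1 n hn hn0 χ T hT fun h' => ?_⟩
  · have a1 := k1 χ T hT
    have a2 := k1 χ₀ T₀ hT₀
    have a3 := Nat.sInf_le (Set.mem_image_of_mem (fun χ : IrrCharacter (G n) =>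
      (charDegree (χ : G n → ℂ)).factorization 2) ((h1 χ₀ T₀ hT₀).2 l1))
    rw [A.card, k2]
    beta_reduce at a3
    omega
  · obtain ⟨a1, a2, a3⟩ := l5 h'
    obtain ⟨z, a4, a5⟩ := h5 a2
    have a6 := k3 a1
    have a7 := fac_mul (p := 2) (card_ker_mul (A.d n) P) Nat.card_pos.ne'
    have a8 := (Nat.prime_two.pow_dvd_iff_le_factorization Nat.card_pos.ne').1
      (a5 ▸ Subgroup.orderOf_dvd_natCard (P.map (A.d n)) ⟨z, h2 a4, rfl⟩)
    omega

end Cfsg.Agent.BZ.A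
end

-- part: BZ/A/Fin2
section
/-!
# BZ, type A (helper65): the rows of the linear and unitary groups

`towers2`, `psl`, `psu` : the fields `psl`, `psu` of `All RowP`.
-/

set_option autoImplicit false

namespace Cfsg.Agent.BZ.A

open Cfsg Cfsg.Agent.KM

/-- the towers at the prime `2` -/
theorem towers2 : BoxU2 := boxU2 boxD2 (boxH2 boxV) (boxL2 boxV) boxZ boxW

/-- **the linear groups** -/
theorem psl : For RowP CPsl := For.of_split (row_psl2 towers2 boxC2 boxR) psl_odd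

/-- **the unitary groups** -/
theorem psu (h62 : ∀ (F : Type) [Field F] [Fintype F], Fintype.card F = 4 → Cov XP 2 3 (PSU 6 F 2))
    (h43 : ∀ (F : Type) [Field F] [Fintype F], Fintype.card F = 9 → Cov XP 3 2 (PSU 4 F 3)) : For RowP CPsu :=
  For.of_split (row_psu2 towers2 boxC2 boxR h43) (psu_odd h62)

end Cfsg.Agent.BZ.A
end

-- part: BZ/Asm
section
/-!
# BZ : the assembly of the rows (helper84)

* `Cl2` : the symplectic and orthogonal groups at the prime `2`; `Ex7 l` : the exceptional groups at the prime `l`;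
* `allP_of` : all the rows.
-/

set_option autoImplicit false

namespace Cfsg.Agent.BZ

open Cfsg Cfsg.Lie Cfsg.Agent.KM

/-- the part of a row at the prime `l` -/
abbrev AtP (l : ℕ) (C : Prd) : Prd := fun p S _ => p = l ∧ C p S

/-- the symplectic and orthogonal groups at the prime `2` -/
structure Cl2 : Prop where
  psp : For RowP (Ev CPsp)
  oodd : For RowP (Ev COdd)
  oplus : For RowP (Ev CPlus)
  ominus : For RowP (Ev CMinus)

/-- the exceptional groups at the prime `l` -/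
structure Ex7 (l : ℕ) : Prop where
  g2 : For RowP (AtP l CG2)
  f4 : For RowP (AtP l CF4)
  e6 : For RowP (AtP l CE6)
  e7 : For RowP (AtP l CE7)
  e8 : For RowP (AtP l CE8)
  te6 : For RowP (AtP l CTe6)
  td4 : For RowP (AtP l CTd4)

theorem For.of_five {C : Prd} (h2 : For RowP (AtP 2 C)) (h3 : For RowP (AtP 3 C))
    (h5 : ∀ (l : ℕ) [Fact l.Prime] (S : Type) [Group S] [Finite S], 5 ≤ l → C l S → RowP l S) : For RowP C :=
  fun p hp S _ _ _ hS h => (em (p = 2)).elim (fun e => h2 p S hS ⟨e, h⟩) fun e2 =>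
    (em (p = 3)).elim (fun e => h3 p S hS ⟨e, h⟩) fun e3 => h5 p S (hp.out.five_le_of_ne_two_of_ne_three e2 e3) h

/-- **all the rows** -/
theorem allP_of (h62 : ∀ (F : Type) [Field F] [Fintype F], Fintype.card F = 2 → RowP 3 (PSp 3 F))
    (h82 : ∀ (F : Type) [Field F] [Fintype F], Fintype.card F = 2 → RowP 3 (POmega F (quadFormPlus 4 F)))
    (c : Cl2) (e2 : Ex7 2) (e3 : Ex7 3) (e5 : For RowP (AtP 5 CE8)) (g : Ex.Good) : All RowP where
  alt := Alt.altP
  lie := D.lieP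
  psl := A.psl
  psp := .of_split c.psp (Cl.psp fun F _ _ h => RowX.cov (X := XP) (h62 F h) 2)
  psu := A.psu (fun F _ _ h => RowX.cov (X := XP) (X.row_u62 F h) 2) X.U4.u43
  oodd := .of_split c.oodd Cl.oodd
  oplus := .of_split c.oplus (Cl.oplus fun F _ _ h => RowX.cov (X := XP) (h82 F h) 2)
  ominus := .of_split c.ominus Cl.ominus
  g2 := .of_five e2.g2 e3.g2 g.g2
  f4 := .of_five e2.f4 e3.f4 g.f4
  e6 := .of_five e2.e6 e3.e6 g.e6
  e7 := .of_five e2.e7 e3.e7 g.e7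
  e8 := fun p hp S _ _ _ hS h => (em (p = 5)).elim (fun e => e5 p S hS ⟨e, h⟩) fun e =>
    (em (p = 2)).elim (fun e => e2.e8 p S hS ⟨e, h⟩) fun h2 => (em (p = 3)).elim (fun e => e3.e8 p S hS ⟨e, h⟩) fun h3 =>
      g.e8 p S (by
        have h5 := hp.out.five_le_of_ne_two_of_ne_three h2 h3
        have h6 : p ≠ 6 := fun e => absurd (e ▸ hp.out) (by norm_num)
        omega) h
  te6 := .of_five e2.te6 e3.te6 g.te6
  td4 := .of_five e2.td4 e3.td4 g.td4
  sz := X2.sz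
  ree := X2.ree
  tf4 := X2.tf4
  tits := titsP
  spor := sporP

end Cfsg.Agent.BZ
end
end

-- part: BZ/Asm2
section
set_option linter.all false

/-!
# BZ : the assembly of the rows, without the exceptional covers (helper84)
-/

set_option autoImplicit false

namespace Cfsg.Agent.BZ

open Cfsg Cfsg.Agent.KM

theorem allP_of2 (c : Cl2) (e2 : Ex7 2) (e3 : Ex7 3) (e5 : For RowP (AtP 5 CE8)) (g : Ex.Good) : All RowP :=
  allP_of (fun F _ _ => X.row_s62 F) (fun F _ _ => X.row_o82 F) c e2 e3 e5 g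

end Cfsg.Agent.BZ
end

-- part: BZ/L/Tw/All31
section
prune_inst 0x1a2200000000000020000090100000000000000000000000008004600000200000200002100a08040000014001100000420000000a000000011800808000400013000100220001000004000000000000000000000000000000000004000000000
set_option linter.all false
open scoped Cfsg.Agent.FastGrp

-- part: BZ/L/Tw/Geo
section
/-!
# BZ, symplectic and orthogonal groups at the prime two: two weights of order four give a large split torus (helper36)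

* `Ge.frame` : two commuting semisimple elements lie in a stable torus; `Ge.el` : the element attached to a weight of order four;
* `boxGeo_of`.
-/

set_option autoImplicit false
set_option linter.unusedSectionVars false

namespace Cfsg.Agent.BZ.Tw

open Cfsg Subgroup Matrix Cfsg.Agent.DL Cfsg.Agent.KM Cfsg.Agent.BZ.L Cfsg.Agent.Nodes.Reps
open Cfsg.Agent.TO.X.Cn (Pi1)

namespace Ge

/-- lifting the exponent for a short period -/
theorem dvd_of_per {r i n : ℕ} {e : ℤ} (hr : r.Prime) (he : (r : ℤ) ∣ e - 1) (h0 : 0 < n) (h1 : n < r)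
    (h : ((r ^ i : ℕ) : ℤ) ∣ e ^ n - 1) : ((r ^ i : ℕ) : ℤ) ∣ e - 1 := by
  rw [← geom_sum_mul, Nat.cast_pow] at h
  refine IsCoprime.dvd_of_dvd_mul_left (IsCoprime.pow_left ((Nat.prime_iff_prime_int.1 hr).coprime_iff_not_dvd.2 fun h2 => ?_)) h
  have h3 : (r : ℤ) ∣ ∑ j ∈ Finset.range n, (e ^ j - 1) := Finset.dvd_sum fun j _ => he.trans (by simpa using sub_dvd_pow_sub_pow e 1 j)
  rw [Finset.sum_sub_distrib, Finset.sum_const, Finset.card_range, nsmul_one] at h3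
  have h4 := dvd_sub h2 h3
  rw [sub_sub_cancel, Int.natCast_dvd_natCast] at h4
  exact absurd (Nat.le_of_dvd h0 h4) (by omega)

variable {p : ℕ} [Fact p.Prime] {k : Type} [Field k] [CharP k p] [IsAlgClosed k] {Y : Type} [Group Y] {N : Type} [Fintype N]
  [DecidableEq N] {ρ : Y →* GL N k} {F : MulAut Y} {G : Subgroup Y} {J : Type} [Fintype J] [DecidableEq J]
  {X : Datum p ρ F G} {θ : Y →* GL J k} {μ : J → X.R → ℤ} {f : ℕ} {e : ℤ} {b : X.R → J} {σ : Equiv.Perm J}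

/-- two commuting semisimple elements lie in a stable torus -/
theorem frame (hP : Pi1 X 1) {u z : Y} (hu : u ∈ GF F G) (hz : z ∈ X.T) (h1 : F z = z) (hc : u * z = z * u) (ho : ¬ p ∣ orderOf u)
    {n : ℕ} (hn : z ^ n = 1) : ∃ y, ∃ (hy : y ∈ G) (hN : y⁻¹ * F y ∈ X.NN), u ∈ (X.conj hy hN).T ∧ z ∈ (X.conj hy hN).T := by
  have h2 : ({z} : Set Y) ⊆ X.T := Set.singleton_subset_iff.2 hz
  obtain ⟨y, h3, h4, h5⟩ := TO.E6.exists_frame_cen X h2 (fun _ h => by rw [h, h1]; rfl)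
    (TO.X.Cn.mem_cen hP hz hn (Nat.coprime_one_right n) hu.1 hc) (mem_GF.1 hu).2 ho
  refine ⟨y, X.cen_le_G _ h3, h4, mem_cj.2 h5, mem_cj.2 ?_⟩
  rwa [mul_assoc, X.cen_le_centralizer h2 h3 z rfl, inv_mul_cancel_left]

variable (h : Nt2 X θ μ f e b σ)
include h

theorem inj {x y : kˣ} (h1 : x ^ e = y ^ e) : x = y := by
  have h2 : x ^ p ^ f = y ^ p ^ f := by
    rcases h.eq with e1 | e1 <;> rw [e1] at h1
    · rwa [zpow_natCast, zpow_natCast] at h1
    · rwa [_root_.zpow_neg, _root_.zpow_neg, _root_.inv_inj, zpow_natCast, zpow_natCast] at h1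
  exact Units.ext ((iterateFrobenius k p f).injective (by
    rw [iterateFrobenius_def, iterateFrobenius_def, ← Units.val_pow_eq_pow_val, h2, Units.val_pow_eq_pow_val]))

theorem ne_two (h4 : 4 ∣ e - 1) : p ≠ 2 := by
  rintro rfl
  obtain ⟨j, hj⟩ := dvd_pow_self 2 h.f0.ne'
  rcases h.eq with e1 | e1 <;> omega

theorem fix {c : X.R → kˣ} (hc : F (X.τ c) = X.τ c) (j : J) : chr (μ j) c = chr (μ (σ j)) c ^ e := by
  rw [← chr_zsmul, ← h.fr, ← chr_mon, X.τ_inj ((X.F_τ c).symm.trans hc)]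

theorem sq_ker {g : Y} (hg : g ∈ G) (h0 : θ g = 1) : g ^ 2 = 1 := by
  obtain ⟨c, hc⟩ := (X.mem_T _).1 (show g ∈ X.T from X.centralizer_T ▸ ⟨hg, fun y hy => h.ker g hg h0 y (X.T_le_G hy)⟩)
  have h2 := h.dg c
  rw [hc, h0, Units.val_one, ← diagonal_one] at h2
  rw [← hc, ← map_pow, h.nt.sq fun j => Units.ext (congrFun (diagonal_injective h2) j).symm, map_one]

theorem wt_eq {g : Y} {c : X.R → kˣ} (hc : g * X.τ c = X.τ c * g) {i j : J} (h0 : (θ g : Matrix J J k) i j ≠ 0) :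
    chr (μ i) c = chr (μ j) c := h.nt.conj i j h0 (by rw [hc, mul_inv_cancel_right])

/-- an element of odd order whose weights are constant along `g` commutes with `g` -/
theorem comm {g : Y} (hg : g ∈ G) {c : X.R → kˣ} {t : ℕ} (ht : t.Coprime 2) (h1 : c ^ t = 1)
    (h2 : ∀ i j, (θ g : Matrix J J k) i j ≠ 0 → chr (μ i) c = chr (μ j) c) : g * X.τ c = X.τ c * g := by
  have h3 : X.τ c ∈ G := X.T_le_G (X.τ_mem c)
  have h4 : θ (X.τ c * g) = θ (g * X.τ c) := Units.ext (by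
    rw [map_mul, map_mul, Units.val_mul, Units.val_mul, h.dg]
    exact Cl.dg_comm.2 fun i j e1 => by rw [h2 i j e1])
  have h5 : g * X.τ c * g⁻¹ * (X.τ c)⁻¹ ∈ G := mul_mem (mul_mem (mul_mem hg h3) (inv_mem hg)) (inv_mem h3)
  have h6 : θ (g * X.τ c * g⁻¹ * (X.τ c)⁻¹) = 1 := by
    rw [map_mul, map_mul, ← h4, ← map_mul, ← map_mul, mul_inv_cancel_right, mul_inv_cancel, map_one]
  have h7 : X.τ c ^ t = 1 := by rw [← map_pow, h1, map_one]
  have h8 : (g * X.τ c * g⁻¹ * (X.τ c)⁻¹ * X.τ c) ^ t = 1 := by rw [inv_mul_cancel_right, conj_pow, h7, mul_one, mul_inv_cancel]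
  rw [Commute.mul_pow (h.ker _ h5 h6 _ h3).symm, h7, mul_one] at h8
  exact (commutatorElement_eq_one_iff_commute.1 (orderOf_eq_one_iff.1 (Nat.eq_one_of_dvd_coprimes ht (orderOf_dvd_of_pow_eq_one h8)
    (orderOf_dvd_of_pow_eq_one (sq_ker h h5 h6))))).eq

/-- **the element attached to a weight of order four** -/
theorem el (B : BoxNt) (h4 : 4 ∣ e - 1) {cu cz : X.R → kˣ} (hu : F (X.τ cu) = X.τ cu) (hz : F (X.τ cz) = X.τ cz) {j₁ : J}
    (h1 : chr (μ j₁) cu ^ 2 = -1) (h2 : chr (μ j₁) cz ^ 2 = 1) {ζ : kˣ} (h3 : ζ ^ e = ζ) {t : ℕ} (ht : t.Coprime 2) (h5 : ζ ^ t = 1) :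
    ∃ c, F (X.τ c) = X.τ c ∧ c ^ t = 1 ∧ chr (μ j₁) c = ζ ^ 2 ∧ (∀ j, chr (μ j) cz ≠ chr (μ j₁) cz → chr (μ j) c = 1) ∧
      ∀ g ∈ G, g * X.τ cu = X.τ cu * g → g * X.τ cz = X.τ cz * g → g * X.τ c = X.τ c * g := by
  classical
  set α := chr (μ j₁) cu
  set β := chr (μ j₁) cz
  have : Fact (2 < p) := ⟨lt_of_le_of_ne (Fact.out : p.Prime).two_le (ne_two h h4).symm⟩
  have k0 : (-1 : kˣ) ≠ 1 := fun e1 => CharP.neg_one_ne_one k p (congrArg Units.val e1)
  have k1 : α⁻¹ ≠ α := fun e1 => k0 (by rw [← h1, pow_two]; exact mul_eq_one_iff_inv_eq.2 e1)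
  have k2 : β⁻¹ = β := mul_eq_one_iff_inv_eq.1 (by rwa [← pow_two])
  have k3 : ∀ x : kˣ, x ^ 4 = 1 → x ^ e = x := fun x hx => by
    obtain ⟨d, hd⟩ := h4
    rw [show e = 4 * d + 1 by omega, _root_.zpow_add_one, _root_.zpow_mul, zpow_ofNat, hx, _root_.one_zpow, one_mul]
  have k4 : α ^ 4 = 1 := by rw [show 4 = 2 * 2 from rfl, pow_mul, h1, neg_one_sq]
  have k5 : β ^ 4 = 1 := by rw [show 4 = 2 * 2 from rfl, pow_mul, h2, one_pow]
  have k6 : ∀ x y : kˣ, x ^ 4 = 1 → (y ^ e = x ↔ y = x) := fun x y hx =>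
    ⟨fun e1 => inj h (e1.trans (k3 x hx).symm), fun e1 => e1 ▸ k3 y (e1 ▸ hx)⟩
  let φ : kˣ → kˣ → kˣ := fun x y => if y = β then if x = α then ζ else if x = α⁻¹ then ζ⁻¹ else 1 else 1
  have k7 : ∀ x y, φ x⁻¹ y⁻¹ = (φ x y)⁻¹ := fun x y => by
    simp only [φ, inv_eq_iff_eq_inv (a := y), inv_eq_iff_eq_inv (a := x), k2, inv_inv]
    by_cases e1 : y = β
    · by_cases e2 : x = α
      · simp [e1, e2, k1.symm]
      · by_cases e3 : x = α⁻¹ <;> simp [e1, e2, e3, k1]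
    · simp [e1]
  have k8 : ∀ x y, φ (x ^ e) (y ^ e) = φ x y ^ e := fun x y => by
    simp only [φ, k6 _ _ k4, k6 _ _ k5, k6 α⁻¹ x (by rw [inv_pow, k4, inv_one])]
    split_ifs <;> simp [h3]
  have k9 : ∀ x y, φ x y ^ t = 1 := fun x y => by
    simp only [φ]
    split_ifs <;> simp [h5]
  obtain ⟨c, c1, c2, c3⟩ := B.sqr X θ μ f e b σ h (fun j => φ (chr (μ j) cu) (chr (μ j) cz))
    (fun i j _ e1 => by rw [e1, chr_neg, chr_neg, k7]) fun j _ => by rw [fix h hu j, fix h hz j, k8]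
  have c4 : ∀ j, chr (μ j) c = φ (chr (μ j) cu) (chr (μ j) cz) ^ 2 := fun j => by
    by_cases e1 : μ j = 0
    · have e2 : (1 : kˣ) ≠ α := fun e2 => k1 (by rw [← e2, inv_one])
      have e3 : (1 : kˣ) ≠ α⁻¹ := fun e3 => e2 (by rw [← inv_inv α, ← e3, inv_one])
      simp [e1, chr_zero, φ, e2, e3]
    · exact c2 j e1
  have c5 := c3 t fun j _ => k9 _ _
  refine ⟨c, c1, c5, by simp [c4, φ, α, β], fun j e1 => by simp [c4, φ, e1], fun g hg e1 e2 => comm h hg ht c5 fun i j e3 => ?_⟩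
  rw [c4, c4, wt_eq h e1 e3, wt_eq h e2 e3]

/-- the large subgroup in a frame which contains both elements -/
theorem big [Finite (GF F G)] (B : BoxNt) (h4 : 4 ∣ e - 1) {u z : GF F G} {cu cz : X.R → kˣ} (hu : X.τ cu = u) (hz : X.τ cz = z) {j₁ j₂ : J}
    (h1 : chr (μ j₁) cu ^ 2 = -1) (h2 : chr (μ j₁) cz ^ 2 = 1) (h1' : chr (μ j₂) cu ^ 2 = -1) (h2' : chr (μ j₂) cz ^ 2 = 1)
    (hn : chr (μ j₁) cz ≠ chr (μ j₂) cz) {ζ : kˣ} (h3 : ζ ^ e = ζ) {t : ℕ} (ht : t.Coprime 2) (h5 : orderOf ζ = t) (h6 : ζ ≠ 1) :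
    ∃ R : Subgroup (GF F G), (∀ g ∈ R, g ^ t = 1) ∧ R ≤ centralizer {u, z} ∧ centralizer {u, z} ≤ centralizer (R : Set (GF F G)) ∧
      t < Nat.card R := by
  have e1 : F (X.τ cu) = X.τ cu := hu ▸ (mem_GF.1 u.2).2
  have e2 : F (X.τ cz) = X.τ cz := hz ▸ (mem_GF.1 z.2).2
  have e3 : ζ ^ t = 1 := h5 ▸ pow_orderOf_eq_one ζ
  let R : Subgroup (GF F G) :=
    { carrier := {g | g ∈ centralizer {u, z} ∧ g ∈ centralizer ((centralizer {u, z} : Subgroup (GF F G)) : Set (GF F G)) ∧ g ^ t = 1}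
      one_mem' := ⟨one_mem _, one_mem _, one_pow t⟩
      mul_mem' := fun {a b} ha hb => ⟨mul_mem ha.1 hb.1, mul_mem ha.2.1 hb.2.1, by
        rw [Commute.mul_pow (hb.2.1 a ha.1), ha.2.2, hb.2.2, mul_one]⟩
      inv_mem' := fun ha => ⟨inv_mem ha.1, inv_mem ha.2.1, by rw [inv_pow, ha.2.2, inv_one]⟩ }
  have key : ∀ {j : J}, chr (μ j) cu ^ 2 = -1 → chr (μ j) cz ^ 2 = 1 → ∃ g ∈ R, ∃ c, X.τ c = g ∧ chr (μ j) c = ζ ^ 2 ∧
      ∀ i, chr (μ i) cz ≠ chr (μ j) cz → chr (μ i) c = 1 := fun a1 a2 => by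
    obtain ⟨c, c1, c2, c3, c4, c5⟩ := el h B h4 e1 e2 a1 a2 h3 ht e3
    refine ⟨⟨X.τ c, mem_GF.2 ⟨X.T_le_G (X.τ_mem c), c1⟩⟩, ⟨?_, fun g hg => Subtype.ext (c5 g g.2.1 ?_ ?_), Subtype.ext ?_⟩, c, rfl, c3, c4⟩
    · rintro a (rfl | rfl)
      · exact Subtype.ext (X.T_comm (hu ▸ X.τ_mem cu) (X.τ_mem c))
      · exact Subtype.ext (X.T_comm (hz ▸ X.τ_mem cz) (X.τ_mem c))
    · exact hu ▸ congrArg Subtype.val (hg u (Or.inl rfl)).symm
    · exact hz ▸ congrArg Subtype.val (hg z (Or.inr rfl)).symm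
    · rw [coe_pow, ← map_pow, c2, map_one, coe_one]
  obtain ⟨g₁, a1, c₁, a2, a3, a4⟩ := key h1 h2
  obtain ⟨g₂, b1, c₂, b2, b3, -⟩ := key h1' h2'
  have o2 : orderOf (ζ ^ 2) = t := by rw [← h5] at ht ⊢; exact ht.orderOf_pow
  refine ⟨R, fun _ hg => hg.2.2, fun _ hg => hg.1, fun y hy g hg => (hg.2.1 y hy).symm, ?_⟩
  have o3 : t ≤ Nat.card (zpowers g₁) := by
    rw [Nat.card_zpowers, ← o2]
    refine Nat.le_of_dvd (orderOf_pos _) (orderOf_dvd_of_pow_eq_one ?_)
    rw [← a3, ← map_pow, show c₁ ^ orderOf g₁ = 1 from X.τ_inj (by rw [map_pow, a2, ← coe_pow, pow_orderOf_eq_one, coe_one, map_one]), map_one]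
  have o4 : zpowers g₁ ≤ R := (zpowers_le (G := GF F G)).2 a1
  refine o3.trans_lt (lt_of_le_of_ne (card_le_of_le o4) fun o5 => ?_)
  obtain ⟨n, o6⟩ : g₂ ∈ zpowers g₁ := eq_of_le_of_card_ge o4 o5.ge ▸ b1
  have o7 : c₂ = c₁ ^ n := X.τ_inj (by rw [map_zpow, a2, b2, ← o6, coe_zpow])
  rw [o7, map_zpow, a4 _ hn.symm, _root_.one_zpow] at b3
  rw [← b3, orderOf_one, ← h5] at o2
  exact h6 (orderOf_eq_one_iff.1 o2.symm)

end Ge

open Ge in
/-- **[Geo]** -/
theorem boxGeo_of (B : BoxNt) : BoxGeo := by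
  intro p _ k _ _ _ Y _ N _ _ ρ F G J _ _ X θ μ f e b σ h r P Q π ω h4 hr he hJ hP hQ wP wQ u z v x x' H x₀ h0 hi
  have := X.amb.finite_GF G
  have : Fact r.Prime := ⟨hr⟩
  have p2 := ne_two h h4
  have : Fact (2 < p) := ⟨lt_of_le_of_ne (Fact.out : p.Prime).two_le p2.symm⟩
  obtain ⟨z1, jz, z2⟩ := (hQ z).1 z.2
  obtain ⟨v1, jv, v2⟩ := (hQ v).1 v.2
  have u1 : (u : Y) ^ 2 ^ (jv + 1) = 1 := by rw [pow_succ', pow_mul, ← coe_pow, pow_two, ← H.sq, ← coe_pow, v2, coe_one]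
  obtain ⟨y, hy, hN, t1, t2⟩ := frame h.pi1 u.2 z1 (mem_GF.1 z.1.2).2 (congrArg Subtype.val H.cm)
    (Tor.not_dvd_ord Nat.prime_two p2.symm u1) (n := 2 ^ jz) (by rw [← coe_pow, z2, coe_one])
  obtain ⟨σ', h'⟩ := B.conj X θ μ f e b σ h y hy hN
  obtain ⟨cu, hu⟩ := ((X.conj hy hN).mem_T _).1 t1
  obtain ⟨cz, hz⟩ := ((X.conj hy hN).mem_T _).1 t2
  obtain ⟨dz, ez⟩ := (X.mem_T _).1 z1
  obtain ⟨dv, ev⟩ := (X.mem_T _).1 v1
  have k1 : ∀ a : {j // μ j ≠ 0}, ∃ j, chr (μ j) cu ^ 2 = ω a v ∧ chr (μ j) cz = ω a z := fun a => by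
    obtain ⟨j, hj⟩ : ∃ j, (θ y : Matrix J J k) a j ≠ 0 := by
      by_contra! e1
      have := congrFun (congrFun (θ y).mul_inv a) a
      rw [one_apply_eq, mul_apply] at this
      simp only [e1, zero_mul, Finset.sum_const_zero, zero_ne_one] at this
    refine ⟨j, ?_, ?_⟩
    · rw [wQ a v dv ev, ← map_pow]
      refine (h.nt.conj _ _ hj ?_).symm
      rw [ev, H.sq, coe_mul, ← hu, ← pow_two, ← map_pow, X.conj_tau]
    · rw [wQ a z dz ez]
      exact (h.nt.conj _ _ hj (hz.trans ez.symm)).symm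
  have k2 : ∀ (a : {j // μ j ≠ 0}) (t : Q), ω a ^ 2 = 1 → ω a t ^ 2 = 1 := fun a t e1 => by rw [← MonoidHom.pow_apply, e1]; rfl
  have k3 : ∀ {a : kˣ}, a ^ 2 = 1 → a ≠ 1 → a = -1 := fun e1 e2 => (Units.inv_eq_self_iff _).1
    (mul_eq_one_iff_inv_eq.1 (by rwa [← pow_two])) |>.resolve_left e2
  obtain ⟨j₁, a1, a2⟩ := k1 x
  obtain ⟨j₂, b1, b2⟩ := k1 x'
  have hp : IsPGroup r P := fun g => ((hP g).1 g.2).2.imp fun _ e1 => Subtype.ext e1
  have : IsCyclic P := isCyclic_of_injective_ringHom ((Units.coeHom k).comp (π x₀)) (Units.val_injective.comp hi)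
  obtain ⟨g, hg⟩ := IsCyclic.exists_generator (α := P)
  have o1 : orderOf (π x₀ g) = Nat.card P := (orderOf_injective _ hi g).trans (orderOf_eq_card_of_forall_mem_zpowers hg)
  obtain ⟨i, o2⟩ := IsPGroup.iff_card.1 hp
  have o3 : π x₀ g ≠ 1 := fun e1 => h0 (MonoidHom.ext fun a => by
    obtain ⟨n, rfl⟩ := hg a
    rw [map_zpow, e1, _root_.one_zpow, MonoidHom.one_apply])
  obtain ⟨dg, eg⟩ := (X.mem_T _).1 ((hP g).1 g.2).1
  have o4 : ∀ (n : ℕ) (j : J), chr (μ j) dg = chr (μ ((σ ^ n) j)) dg ^ e ^ n := fun n j => by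
    induction n with
    | zero => simp
    | succ n ih => rw [ih, fix h (eg ▸ (mem_GF.1 g.1.2).2), ← _root_.zpow_mul, pow_succ', pow_succ', Equiv.Perm.mul_apply]
  have o5 : π x₀ g ^ e = π x₀ g := by
    have m1 : (x₀ : J) ∈ Function.periodicPts σ := Function.Injective.mem_periodicPts σ.injective _
    have m2 := o4 (Function.minimalPeriod σ x₀) x₀
    rw [Equiv.Perm.coe_pow, Function.iterate_minimalPeriod, ← wP x₀ g dg eg] at m2
    have m3 : (orderOf (π x₀ g) : ℤ) ∣ e ^ Function.minimalPeriod σ x₀ - 1 :=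
      orderOf_dvd_iff_zpow_eq_one.2 (by rw [_root_.zpow_sub_one, ← m2, mul_inv_cancel])
    rw [o1, o2] at m3
    have m4 := dvd_of_per hr he (Function.minimalPeriod_pos_of_mem_periodicPts m1)
      (Function.minimalPeriod_le_card.trans_lt (by omega)) m3
    rw [← o2, ← o1, orderOf_dvd_iff_zpow_eq_one, _root_.zpow_sub_one] at m4
    exact mul_inv_eq_one.1 m4
  have o6 : (Nat.card P).Coprime 2 := o2 ▸ ((Nat.coprime_primes hr Nat.prime_two).2 (by omega)).pow_left i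
  obtain ⟨R, r1, r2, r3, r4⟩ := big h' B h4 hu hz (a1.trans (k3 (k2 x v H.o1) H.v1)) (a2 ▸ k2 x z H.o1)
    (b1.trans (k3 (k2 x' v H.o2) H.v2)) (b2 ▸ k2 x' z H.o2) (by rw [a2, b2, H.z2]; exact H.z1) o5 o6 o1 o3
  exact ⟨R, fun a => ⟨i, Subtype.ext (o2 ▸ r1 a a.2)⟩, r2, fun a ha _ => r3 ha, r4⟩

end Cfsg.Agent.BZ.Tw
end

-- part: BZ/L/Tw/Dat
section
/-!
# BZ, symplectic and orthogonal groups at the prime two: the theorem for a datum (helper98)

`boxDat_of : BoxNt → BoxWt → BoxGeo → BoxSq → BoxCore → BoxDat`.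
-/

set_option autoImplicit false
set_option linter.unusedSectionVars false
set_option maxHeartbeats 400000

namespace Cfsg.Agent.BZ.Tw

open Cfsg Subgroup Matrix Cfsg.Agent.DL Cfsg.Agent.KM Cfsg.Agent.BZ.L Cfsg.Agent.Nodes.Reps Cfsg.Agent.BZ.Lab Cfsg.Agent.HZ.Gen
  Cfsg.Agent.KM.Tor

namespace Da

theorem exists_emb {p : ℕ} [Fact p.Prime] {k : Type} [Field k] [CharP k p] (h2 : p ≠ 2) :
    ∃ ι : kˣ →* ℂˣ, ∀ (a : kˣ) (j : ℕ), a ^ 2 ^ j = 1 → ι a = 1 → a = 1 := by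
  have h1 : IsPrimitiveRoot (-1 : kˣ) 2 := IsPrimitiveRoot.coe_units_iff.1 (IsPrimitiveRoot.neg_one p h2)
  obtain ⟨ι, h3⟩ := KZ.Mts.exists_J two_ne_zero h1
  refine ⟨ι, fun a j => ?_⟩
  induction j generalizing a with
  | zero => exact fun h _ => by simpa using h
  | succ j ih =>
    intro h h4
    have h5 : a * a = 1 := ih (a * a) (by rw [← sq, ← pow_mul, ← pow_succ', h]) (by rw [map_mul, h4, one_mul])
    refine Units.ext ((mul_self_eq_one_iff.1 (congrArg Units.val h5)).resolve_right fun e => h3.ne_one one_lt_two ?_)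
    rwa [← show a = -1 from Units.ext e]

section pure

variable {l r m n N j : ℕ} {K : Type} [Group K] [Fintype K] {α : MulAut K} {M : Ideal AlgInt} {B : Set (IrrCharacter K)}
  {D A R P Q : Subgroup K}

theorem mem_cen {x y : K} : y ∈ centralizer (A.map (MulAut.conj x).toMonoidHom : Set K) ↔ x⁻¹ * y * x ∈ centralizer (A : Set K) := by
  refine ⟨fun h a ha => ?_, ?_⟩
  · have e : x * a * x⁻¹ * y = y * (x * a * x⁻¹) := h _ ⟨a, ha, rfl⟩
    rw [show a * (x⁻¹ * y * x) = x⁻¹ * (x * a * x⁻¹ * y) * x by group, e]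
    group
  · rintro h _ ⟨a, ha, rfl⟩
    show x * a * x⁻¹ * y = y * (x * a * x⁻¹)
    rw [show x * a * x⁻¹ * y = x * (a * (x⁻¹ * y * x)) * x⁻¹ by group, h a ha]
    group

/-- `BoxSub.mx` for every defect group -/
theorem mx_any (fr : Fr l r m n N K α) (hM : IsPModular l M) (hB : IsPBlock M B) (sB : StB α B) (mx : Mx r j B)
    (hD : IsDefectGroup l M B D) (hA : A ≤ D) (hc : A ≤ centralizer (A : Set K)) (hR : IsPGroup r R) (h1 : R ≤ centralizer (A : Set K))
    (h2 : ∀ y ∈ centralizer (A : Set K), ¬ l ∣ orderOf y → y ∈ centralizer (R : Set K)) : Nat.card R ≤ r ^ j := by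
  have := hM.2.1.isPrime
  have : Fact l.Prime := ⟨hM.1⟩
  obtain ⟨χ, rfl⟩ := id hB
  obtain ⟨E, k1, k2⟩ := boxSt.dfg fr.toGl l M hM χ (sB χ (Blocks.Basic.mem_blockOf_self χ))
  obtain ⟨x, rfl⟩ := TID.Red.conj_defect hM hB hD k1
  rw [← card_map_of_injective (f := (MulAut.conj x).toMonoidHom) (MulAut.conj x).injective]
  refine boxSub.mx fr hM hB sB mx k1 (boxSt.grp fr.toGl _ (Blocks.Basic.isPGroup_of_isDefectGroup k1) k2) (map_mono hA) ?_ (hR.map _) ?_
    fun y hy h3 => mem_cen.2 (h2 _ (mem_cen.1 hy) ?_)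
  · rintro _ ⟨a, ha, rfl⟩
    exact mem_cen.2 (by simpa [mul_assoc] using hc ha)
  · rintro _ ⟨a, ha, rfl⟩
    exact mem_cen.2 (by simpa [mul_assoc] using h1 ha)
  · rwa [show x⁻¹ * y * x = MulAut.conj x⁻¹ y by simp, MulEquiv.orderOf_eq]

theorem m2_of {C : Type} [CommGroup C] {I : Type} {π : I → P →* C} {ω : I → Q →* C} (fr : Fr 2 r m n N K α) (hr : r.Prime)
    (hM : IsPModular 2 M) (hB : IsPBlock M B) (sB : StB α B) (hP : IsPGroup r P) (mx : Mx r ((Nat.card P).factorization r) B)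
    (hD : IsDefectGroup 2 M B D) (hQ : Q ≤ D) (h : Geo r P Q π ω) : M2 D P Q π ω := fun u hu z v x x' h1 x₀ h2 h3 => by
  obtain ⟨R, k1, k2, k3, k4⟩ := h u z v x x' h1 x₀ h2 h3
  have := Fact.mk hr
  obtain ⟨i, hi⟩ := IsPGroup.iff_card.1 hP
  have k5 := mx_any (A := closure {u, (z : K)}) fr hM hB sB mx hD
    ((closure_le _).2 (Set.insert_subset hu (Set.singleton_subset_iff.2 (hQ z.2)))) ?_ k1 (by rwa [centralizer_closure])
    (by rwa [centralizer_closure])
  · rw [hi, hr.factorization_pow, Finsupp.single_eq_same] at k5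
    omega
  · rw [centralizer_closure, closure_le]
    rintro a (rfl | rfl) b (rfl | rfl)
    exacts [rfl, h1.cm.symm, h1.cm, rfl]

end pure

variable {p : ℕ} [Fact p.Prime] {k : Type} [Field k] [CharP k p] [IsAlgClosed k] {Y : Type} [Group Y] {N : Type} [Fintype N]
  [DecidableEq N] {ρ : Y →* GL N k} {F : MulAut Y} {G : Subgroup Y} {J : Type} [Fintype J] [DecidableEq J]
  {X : Datum p ρ F G} {θ : Y →* GL J k} {μ : J → X.R → ℤ} {f : ℕ} {e : ℤ} {b : X.R → J} {σ : Equiv.Perm J}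

theorem exists_wo (X : Datum p ρ F G) (μ : J → X.R → ℤ) {s : ℕ} {H : Subgroup (GF F G)} (h : Ts X s H) :
    ∃ w : {j // μ j ≠ 0} → H →* kˣ, Wo X μ w :=
  ⟨fun j => MonoidHom.mk' (fun a => chr (μ j) (X.crd ((a : GF F G) : Y))) fun a a' => by
    rw [coe_mul, coe_mul, X.crd_mul ((h _).1 a.2).1 ((h _).1 a'.2).1, map_mul],
    fun j a c e => by rw [MonoidHom.mk'_apply, ← e, X.crd_τ]⟩

theorem odd_q (h2 : p ≠ 2) (f : ℕ) : Odd (p ^ f) := ((Fact.out : p.Prime).odd_of_ne_two h2).pow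

theorem cs (h : Nt2 X θ μ f e b σ) (h2 : p ≠ 2) : ∃ n c, Cs X (p ^ f) n c := by
  obtain ⟨V, hV⟩ := h.bas
  have hV' := Cl.mul_two_comm hV
  obtain ⟨i, hi⟩ : Odd e := by
    rcases h.eq with e | e <;> rw [e]
    exacts [(odd_q h2 f).natCast, (odd_q h2 f).natCast.neg]
  have h0 : e ≠ 0 := by omega
  have h3 : (2 : ℤ) • X.Mx = e • (V * Matrix.of fun i => μ (σ (b i))) := by
    rw [← Matrix.mul_smul, ← Matrix.one_mul X.Mx, ← Matrix.smul_mul, ← hV', Matrix.mul_assoc]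
    exact congrArg _ (funext fun i => h.fr (b i))
  obtain ⟨B, hB⟩ : ∃ B, X.Mx = e • B := ⟨X.Mx - i • (V * Matrix.of fun i => μ (σ (b i))), by
    rw [smul_sub, smul_comm e i, ← h3, hi]
    module⟩
  have h4 : ∀ (o : ℕ) j, μ j ᵥ* B ^ o = μ ((σ ^ o) j) := fun o => by
    induction o with
    | zero => simp
    | succ o ih =>
      intro j
      refine smul_right_injective _ h0 ?_
      simp only
      rw [pow_succ, ← vecMul_vecMul, ih, ← vecMul_smul, ← hB, h.fr, pow_succ', Equiv.Perm.mul_apply]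
  have h5 : B ^ orderOf σ = 1 := by
    refine smul_right_injective _ (two_ne_zero (α := ℤ)) ?_
    simp only
    rw [← Matrix.one_mul (B ^ _), ← Matrix.smul_mul, ← hV', Matrix.mul_assoc]
    exact congrArg _ (funext fun i => (h4 _ (b i)).trans (by rw [pow_orderOf_eq_one]; rfl))
  rcases h.eq with e | e
  · exact E2.cs_of X h2 h.f0 (e ▸ hB) (orderOf_pos σ) h5
  · exact E2.cs_of X h2 h.f0 (B := -B) (by rw [hB, e, neg_smul, smul_neg]) (mul_pos two_pos (orderOf_pos σ))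
      (by rw [pow_mul, neg_sq, ← pow_mul, mul_comm, pow_mul, h5, one_pow])

theorem sign (hN : BoxNt) (h : Nt2 X θ μ f e b σ) : ∃ σ', Nt2 X θ μ f (E2.tq (p ^ f)) b σ' := by
  obtain ⟨σ', h'⟩ := hN.neg X θ μ f e b σ h
  unfold E2.tq
  rcases h.eq with e | e <;> subst e <;> split_ifs
  exacts [⟨σ, h⟩, ⟨σ', h'⟩, ⟨σ', neg_neg ((p ^ f : ℕ) : ℤ) ▸ h'⟩, ⟨σ, h⟩]

theorem four {q : ℕ} (hq : Odd q) (m : ℕ) : 4 ∣ E2.tq q ^ m - 1 := by
  refine Dvd.dvd.trans ?_ (sub_one_dvd_pow_sub_one _ m)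
  obtain ⟨j, rfl⟩ := hq
  unfold E2.tq
  split_ifs <;> omega

end Da

/-- **[Dat]** -/
theorem boxDat_of (hN : BoxNt) (hW : BoxWt) (hG : BoxGeo) (hS : BoxSq) (hC : BoxCore) : BoxDat := by
  intro p _ k _ _ _ Y _ N _ _ ρ F G J _ _ X θ μ f e b σ h h2 hQ M hM
  obtain ⟨n, c, hX⟩ := Da.cs h h2
  obtain ⟨d, hq⟩ := E2.nq_two h2 h.f0
  obtain ⟨σ₁, h1⟩ := Da.sign hN h
  obtain ⟨ι, hι⟩ := Da.exists_emb (k := k) h2
  refine boxDown X _ d 2 n c M _ hq hX hM le_rfl
    ((((boxLieP p _ d 2 n c hq).and (Lg.gt (Fintype.card J + 2))).and (Lg.modEq two_ne_zero)).mono ?_)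
  rintro m ⟨⟨hL, hm⟩, ho⟩ r hr _ n' N' α fm B hB sB hz
  obtain ⟨y, hy, hy', hs, _, β, D, S, H⟩ := hL r hr X hX n' N' α M fm hM _ B le_rfl hB sB hz
  have hm0 : 0 < m := by omega
  obtain ⟨σ₂, h3⟩ := hN.conj X θ μ f _ b σ₁ h1 y hy hy'
  have h4 := hN.pow _ _ _ _ _ _ _ h3 m hm0
  have k1 := Da.four (Da.odd_q h2 f) m
  have k2 := F2.tq_pow (Da.odd_q h2 f) hq.dl (Nat.odd_iff.2 ho) hr
  have k3 : Fintype.card J + 2 < r := hm.trans hr.mr
  have kZ : Zq (F ^ m) G (Pt F G m 2 (Zc X {a | X.Rt a})) := fun g => (Gl.mem_Pt X (S := Zc X {a | X.Rt a}) fun _ h => h.1).trans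
    (and_congr_left fun _ => ⟨Bz.Zc_cen, fun h => Bz.Zc_of_center hQ g.2.1 fun y hy => h y hy.1⟩)
  have kP : Ts ((X.conj hy hy').pow hm0) r (Pt F G m r (X.conj hy hy').T) := fun g => Gl.mem_Pt (X.conj hy hy') le_rfl
  have kQ : Ts ((X.conj hy hy').pow hm0) 2 (Pt F G m 2 (X.conj hy hy').T) := fun g => Gl.mem_Pt (X.conj hy hy') le_rfl
  obtain ⟨π, hπ⟩ := Da.exists_wo ((X.conj hy hy').pow hm0) μ kP
  obtain ⟨ω, hω⟩ := Da.exists_wo ((X.conj hy hy').pow hm0) μ kQ
  exact ⟨D, H.dfB, hC ι hι (Gl.cen_Pt X le_rfl) H.fx.ab H.toOu (hW _ _ _ _ _ _ _ h4 r _ _ _ π ω k1 hr.rp k2 k3 kZ kP kQ hπ hω)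
    (Da.m2_of (fm.fr r hr.rp hr.mr) hr.rp hM hB sB H.top.rp H.top.mx H.dfB H.res.le
      (hG _ _ _ _ _ _ _ h4 r _ _ π ω k1 hr.rp k2 k3 kP kQ hπ hω)) (hS _ _ _ _ _ _ _ h4 _ _ ω k1 kZ kQ hω)⟩

end Cfsg.Agent.BZ.Tw
end

-- part: BZ/L/TwR/C
section
/-!
# BZ : the row of the symplectic groups at the prime two (helper65)

`lsC` : the residual case does not occur; `hc_of`, **`psp_two`**.
-/

set_option autoImplicit false
set_option linter.unusedSectionVars false
set_option maxHeartbeats 400000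

namespace Cfsg.Agent.BZ.TwR

open Cfsg Cfsg.Agent.DL Cfsg.Agent.KM Matrix Cfsg.Agent.BZ.Cl Cfsg.Agent.BZ.L Cfsg.Agent.KM.Tor
  Cfsg.Agent.KZ.Dat Cfsg.Agent.Nodes.TypeC Cfsg.Agent.ODD.C2 Cfsg.Agent.KM.ScC

section

variable {n : ℕ} {k : Type} [Field k] {p : ℕ} [Fact p.Prime] [CharP k p] [IsAlgClosed k]
  (hk : ∀ a : k, ∃ j, 0 < j ∧ a ^ p ^ j = a) {e : ℕ} (he : 0 < e)

theorem wt_dot (x : Fin n × Bool) (v : Fin n → ℤ) : wt x ⬝ᵥ v = if x.2 then v x.1 else -v x.1 := by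
  rw [wt, single_dotProduct]
  split_ifs <;> simp

theorem add_dot (x y : Fin n × Bool) (v : Fin n → ℤ) :
    (wt x + wt y) ⬝ᵥ v = (if x.2 then v x.1 else -v x.1) + if y.2 then v y.1 else -v y.1 := by
  rw [add_dotProduct, wt_dot, wt_dot]

theorem pure (π : Equiv.Perm (Fin n)) (s : Fin n → ℤˣ) (u y z : Fin n → ℤ) (x x' : Fin n × Bool) (h0 : ∀ i j, 2 ∣ u i + u j)
    (pr : ∀ x, u ≠ (2 : ℤ) • x) (fu : spm π s *ᵥ u = u) (hz : spm π s *ᵥ y = y + (2 : ℤ) • z)
    (pb : ∀ v, spm π s *ᵥ v = v → (wt x + wt x') ⬝ᵥ v = 0) : 2 ∣ (wt x + wt x') ⬝ᵥ y := by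
  have h1 : ∀ i : Fin n, ¬ 2 ∣ u i := fun i h => by
    have h2 : ∀ j : Fin n, 2 ∣ u j := fun j => (dvd_add_right h).1 (h0 i j)
    choose x hx using h2
    exact pr x (funext hx)
  have h2 : ∀ j : Fin n, u (π j) = s j * u j := fun j => (congrFun fu (π j)).symm.trans (spm_mulVec π s u j)
  have h3 : ∀ j : Fin n, y (π j) % 2 = y j % 2 := fun j => by
    have h4 : y (π j) + 2 * z (π j) = s j * y j := (congrFun hz (π j)).symm.trans (spm_mulVec π s y j)
    rcases Int.units_eq_one_or (s j) with e | e <;> rw [e] at h4 <;> simp at h4 <;> omega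
  have h4 := pb (fun i => u i * (y i % 2)) (by
    refine funext fun i => ?_
    obtain ⟨j, rfl⟩ := π.surjective i
    rw [spm_mulVec, h2, h3, mul_assoc])
  rw [add_dot] at h4 ⊢
  have h7 : ∀ i : Fin n, (u i * (y i % 2)) % 2 = y i % 2 := fun i => by
    have := h1 i
    rcases Int.emod_two_eq_zero_or_one (y i) with e | e <;> rw [e] <;> omega
  have k1 := h7 x.1
  have k2 := h7 x'.1
  split_ifs at h4 ⊢ <;> omega

theorem lsC : E2.Ls (datC n hk he) := fun w v u y b R => by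
  exfalso
  obtain ⟨π, s, hw⟩ := WmC_spm hk he w
  obtain ⟨z, hz⟩ := R.fy
  obtain ⟨x, x', -, h5⟩ := (rtC_iff hk he).1 R.rt
  have k1 := R.fu
  have k2 := R.pb
  have k3 := R.od
  rw [hw] at hz k1 k2
  rw [h5] at k2 k3
  refine k3 (pure π s u y z x x' (fun i j => ?_) R.pr k1 hz k2)
  by_cases e : i = j
  · rw [e, ← two_mul]
    exact dvd_mul_right _ _
  · obtain ⟨a, ha, h1⟩ := exists_rtC hk he (x := (i, true)) (y := (j, true)) (Or.inl e)
    have h2 := R.ce a ha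
    rw [h1] at h2
    exact h2.trans (Eq.dvd (add_dot (i, true) (j, true) u))

theorem zcC (hn : 2 ≤ n) : ∃ f : Zc (datC n hk he) {a | (datC n hk he).Rt a} → Prop, Function.Injective f := by
  have h1 : ∀ z : Zc (datC n hk he) {a | (datC n hk he).Rt a}, ∃ c : kˣ, c * c = 1 ∧ (z : GL (Fin n × Bool) k) =
      (datC n hk he).τ fun _ => c := fun z => by
    obtain ⟨c, hc⟩ := ((datC n hk he).mem_T _).1 z.2.1
    have h2 : ∀ i j : Fin n, c i * c j = 1 := fun i j => by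
      obtain ⟨a, ha, h1⟩ := exists_rtC hk he (x := (i, true)) (y := (j, true)) ((em (i = j)).elim (fun e => Or.inr (by rw [e])) Or.inl)
      have h2 := z.2.2 a ha
      rw [← hc, Datum.χ_τ, h1] at h2
      exact ((chr_add (wt (i, true)) (wt (j, true)) c).trans (congrArg₂ _ (chr_wtC _ _) (chr_wtC _ _))).symm.trans (Units.ext h2)
    refine ⟨c ⟨0, by omega⟩, h2 _ _, hc.symm.trans (congrArg _ (funext fun i : Fin n => ?_))⟩
    exact mul_right_cancel ((h2 i ⟨0, by omega⟩).trans (h2 _ _).symm)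
  choose c h2 h3 using h1
  refine ⟨fun z => c z = 1, fun a b e => Subtype.ext ?_⟩
  have h4 : ∀ z, c z = 1 ∨ c z = -1 := fun z =>
    (mul_self_eq_one_iff.1 (show (c z : k) * c z = 1 by rw [← Units.val_mul, h2, Units.val_one])).imp Units.ext Units.ext
  have h5 : c a = c b := by
    by_cases h : c a = 1
    · exact h.trans (e.mp h).symm
    · exact ((h4 a).resolve_left h).trans ((h4 b).resolve_left fun h' => h (e.mpr h')).symm
  rw [h3, h3, h5]

end

theorem hc_of (hL : BoxLie) : HC := fun {n k} _ {p} _ _ _ hk {e} he hn h2 => by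
  obtain ⟨f, hf⟩ := zcC hk he hn
  have := Finite.of_injective _ hf
  refine E2.bz_two hL F2.boxF2 h2 he (by rw [datC_Mx, Nat.cast_pow]) ?_ ((Nat.card_le_card_of_injective _ hf).trans (by simp))
    (lsC hk he)
  obtain ⟨w, hw⟩ := exists_WmC hk he 1 (fun _ => -1)
  refine ⟨w, hw.trans ((spm_diag _).trans ?_)⟩
  show _ = (-1 : Matrix (Fin n) (Fin n) ℤ)
  exact Matrix.ext fun i j => by by_cases h : i = j <;> simp [h]

/-- **the symplectic groups, `l = 2`** -/
theorem psp_two (hL : BoxLie) : For RowP (Ev CPsp) := psp_of (hc_of hL)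

end Cfsg.Agent.BZ.TwR
end

-- part: BZ/L/Tw/All31
section
/-!
# BZ, classical groups at the prime two : the rows (helper31)
-/

set_option autoImplicit false

namespace Cfsg.Agent.BZ.Tw.A31

theorem boxDat : BoxDat := boxDat_of boxNt (boxWt_of boxNt) (boxGeo_of boxNt) boxSq boxCore

/-- **the four rows** -/
theorem cl2 : Cl2 :=
  let h := TwR.rows_of boxDat X.row_o73
  ⟨TwR.psp_two L.boxLie, h.1, h.2.1, h.2.2⟩

end Cfsg.Agent.BZ.Tw.A31
end
end

-- part: BZ/L/K3/All2_mg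
section
prune_inst 0x2000028050d2200000000000200002240200000020000000051800004000290220000a00004a01a120018a800000401400010000000000000000004004000000000a2120261c10000800096001004000000000000000000000000000000041004000000000
set_option linter.all false
open scoped Cfsg.Agent.FastGrp

-- part: BZ/L/K3/GamA
section
/-!
# BZ / L / K3 : the cases A and C in an abstract group (helper81)

`Ga.le_of`, `Ga.comm_of`, `Ga.exists_char`.
-/

set_option autoImplicit false
set_option linter.unusedSectionVars false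

namespace Cfsg.Agent.BZ.K3.Ga

open Subgroup Cfsg.Agent.BZ.L

variable {l : ℕ} [hl : Fact l.Prime] {K : Type} [Group K] [Finite K] {Z D P Q S : Subgroup K}

/-- case A -/
theorem le_of (o : Ou l Z D P Q S) (h : ¬ l ∣ (centralizer (P : Set K)).relIndex S) : D ≤ Q := by
  have R := o.res
  have h1 := relIndex_mul_relIndex (centralizer (P : Set K) ⊓ centralizer (Q : Set K)) (S ⊓ centralizer (P : Set K)) S
    (le_inf R.cs inf_le_left) inf_le_left
  rw [inf_relIndex_left] at h1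
  have h2 := R.syl
  rw [inf_eq_left.2 o.nq, ← h1, Nat.factorization_eq_zero_of_not_dvd (hl.out.not_dvd_mul R.reg h)] at h2
  obtain ⟨j, hj⟩ := IsPGroup.iff_card.1 R.pg
  obtain ⟨i, -, hi⟩ := (Nat.dvd_prime_pow hl.out).1 (hj ▸ relIndex_dvd_card Q D)
  rw [hi, hl.out.factorization_pow, Finsupp.single_eq_same] at h2
  rw [h2, pow_zero] at hi
  exact relIndex_eq_one.1 hi

theorem comm_le (hQ : Q ≤ centralizer (Q : Set K)) (h : D ≤ Q) : ⁅D, D⁆ ≤ Z :=
  commutator_le.2 fun x hx y hy => by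
    rw [commutatorElement_eq_one_iff_mul_comm.2 (hQ (h hy) x (h hx))]
    exact one_mem _

/-- an element whose conjugates are powers lies in the subgroups of index prime to `l` -/
theorem mem_of {G : Type} [Group G] [Finite G] {H L : Subgroup G} [hL : L.Normal] (h1 : L ≤ H) (h2 : ¬ l ∣ H.index) {s : G}
    (h3 : s ^ l ∈ L) (h4 : ∀ g, ∃ i : ℕ, g⁻¹ * s * g * (s ^ i)⁻¹ ∈ L) : s ∈ H := by
  classical
  have := Fintype.ofFinite (G ⧸ H)
  obtain ⟨a, ha⟩ := Equiv.Perm.exists_fixed_point_of_prime (p := l) (n := 1) (α := G ⧸ H)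
    (by rwa [← Nat.card_eq_fintype_card]) (σ := MulAction.toPermHom G (G ⧸ H) s) (by
      rw [pow_one, ← map_pow]
      refine Equiv.ext fun a => ?_
      obtain ⟨g, rfl⟩ := QuotientGroup.mk_surjective a
      exact (QuotientGroup.eq.2 (by simpa [mul_assoc] using h1 (hL.conj_mem' _ h3 g))).symm)
  obtain ⟨g, rfl⟩ := QuotientGroup.mk_surjective a
  have h5 : g⁻¹ * s * g ∈ H := by simpa [mul_assoc] using QuotientGroup.eq.1 ha.symm
  obtain ⟨i, h6⟩ := h4 g
  by_cases e : l ∣ i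
  · obtain ⟨j, rfl⟩ := e
    have h7 := mul_mem h6 (pow_mem h3 j)
    rw [pow_mul, inv_mul_cancel_right] at h7
    simpa [mul_assoc] using h1 (hL.conj_mem _ h7 g)
  · have h7 : s ^ i ∈ H := by
      have := mul_mem (inv_mem (h1 h6)) h5
      rwa [mul_inv_rev, inv_inv, inv_mul_cancel_right] at this
    obtain ⟨a, b, h8⟩ := Nat.isCoprime_iff_coprime.2 ((hl.out.coprime_iff_not_dvd).2 e)
    rw [← zpow_one s, ← h8, zpow_add, mul_comm a, mul_comm b, zpow_mul, zpow_mul, zpow_natCast, zpow_natCast]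
    exact mul_mem (zpow_mem (h1 h3) a) (zpow_mem h7 b)

/-- case C -/
theorem comm_of (o : Ou l Z D P Q S) (hQ : Q ≤ centralizer (Q : Set K))
    (w1 : normalizer (P : Set K) ⊓ centralizer (Q : Set K) ≤ centralizer (P : Set K))
    (hL : centralizer (P : Set K) ≤ centralizer (Q : Set K)) {s : K} (hs : s ∈ S) (h1 : s ^ l ∈ centralizer (P : Set K))
    (h2 : ∀ g ∈ S, (∃ j, g ^ l ^ j ∈ centralizer (P : Set K)) → ∃ i : ℕ, g * (s ^ i)⁻¹ ∈ centralizer (P : Set K)) : ⁅D, D⁆ ≤ Z := by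
  have R := o.res
  have hn : ((centralizer (P : Set K)).subgroupOf S).Normal :=
    ⟨fun a ha g => (mem_normalizer_iff.1 (Lab.Cor.norm_le P (R.sp g.2)) a).1 ha⟩
  let φ := Q.normalizerMonoidHom
  have k0 : ∀ g : normalizer (Q : Set K), φ g = 1 ↔ (g : K) ∈ centralizer (Q : Set K) := fun g => by
    rw [← MonoidHom.mem_ker, normalizerMonoidHom_ker, mem_subgroupOf]
  let σ := φ ⟨s, R.sq hs⟩
  have k1 : ∀ y : Q, ((σ y * y⁻¹ : Q) : K) ∈ Z := fun y => by
    by_contra e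
    obtain ⟨θ, e1, e2⟩ := F2.exists_sep hQ _ e
    obtain ⟨H, e3, e4⟩ := F2.exists_stab R.sq θ
    have e5 : ∀ g ∈ S ⊓ centralizer (P : Set K), ∀ y y' : Q, (y' : K) = g * y * g⁻¹ → θ y' = θ y := fun g hg y y' e =>
      congrArg θ (Subtype.ext (by rw [e, ← hL hg.2 y y.2, mul_inv_cancel_right]))
    have e6 := mem_of (L := (centralizer (P : Set K)).subgroupOf S) (s := ⟨s, hs⟩) (fun g hg => (e4 g).2 (e5 g ⟨g.2, hg⟩))
      (e3 ▸ R.orb θ e1 e5) h1 fun g => h2 _ (g⁻¹ * ⟨s, hs⟩ * g).2 ⟨1, by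
        have := hn.conj_mem (⟨s, hs⟩ ^ l) h1 g⁻¹
        rw [← conj_pow, inv_inv] at this
        rwa [pow_one]⟩
    exact e2 (by rw [map_mul, (e4 _).1 e6 y (σ y) rfl, map_inv, mul_inv_cancel])
  have k2 : ∀ (i : ℕ) (y : Q), (((σ ^ i) y * y⁻¹ : Q) : K) ∈ Z := fun i y => by
    induction i with
    | zero => simp
    | succ i ih =>
      have := mul_mem (k1 ((σ ^ i) y)) ih
      rwa [← coe_mul, mul_assoc, inv_mul_cancel_left, ← MulAut.mul_apply, ← pow_succ'] at this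
  have k3 : ∀ x (hx : x ∈ D), ∃ i : ℕ, φ ⟨x, o.nq hx⟩ = σ ^ i := fun x hx => by
    obtain ⟨c, hc, e⟩ := R.nrm x hx (o.nq hx)
    have e1 : φ ⟨x * c, R.sq e⟩ = φ ⟨x, o.nq hx⟩ := by
      rw [← mul_one (φ ⟨x, _⟩), ← (k0 ⟨c, centralizer_le_normalizer _ hc⟩).2 hc, ← map_mul]
      rfl
    obtain ⟨j, hj⟩ := R.pg ⟨x, hx⟩
    obtain ⟨i, hi⟩ := h2 _ e ⟨j, w1 ⟨pow_mem (R.sp e) _, (k0 (⟨x * c, R.sq e⟩ ^ l ^ j)).1 (by
      rw [map_pow, e1, ← map_pow, show (⟨x, o.nq hx⟩ : normalizer (Q : Set K)) ^ l ^ j = 1 from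
        Subtype.ext (congrArg Subtype.val hj :), map_one])⟩⟩
    have e2 := (k0 (⟨x * c, R.sq e⟩ * (⟨s, R.sq hs⟩ ^ i)⁻¹)).2 (hL hi)
    rw [map_mul, map_inv, map_pow, e1, mul_inv_eq_one] at e2
    exact ⟨i, e2⟩
  have k4 : ∀ x ∈ D, ∀ y ∈ Q, x * y * x⁻¹ * y⁻¹ ∈ Z := fun x hx y hy => by
    obtain ⟨i, hi⟩ := k3 x hx
    have := k2 i ⟨y, hy⟩
    rwa [← hi] at this
  refine commutator_le.2 fun x hx y hy => ?_
  by_cases e : x ∈ Q
  · simpa [commutatorElement_def, mul_assoc] using inv_mem (k4 y hy x e)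
  obtain ⟨i, hi⟩ := k3 x hx
  obtain ⟨j, hj⟩ := k3 y hy
  have k5 : σ ^ l = 1 := by rw [← map_pow]; exact (k0 _).2 (hL h1)
  obtain ⟨a, ha⟩ := exists_pow_eq_self_of_coprime (x := σ) (n := i) (Nat.Coprime.coprime_dvd_right (orderOf_dvd_of_pow_eq_one k5)
    ((hl.out.coprime_iff_not_dvd).2 fun ⟨b, hb⟩ => e (R.cen ⟨hx, (k0 ⟨x, o.nq hx⟩).1 (by rw [hi, hb, pow_mul, k5, one_pow])⟩)).symm)
  have k6 : y * (x ^ (a * j))⁻¹ ∈ Q := R.cen ⟨D.mul_mem hy (D.inv_mem (D.pow_mem hx _)),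
    (k0 (⟨y, o.nq hy⟩ * (⟨x, o.nq hx⟩ ^ (a * j))⁻¹)).1 (by rw [map_mul, map_inv, map_pow, hi, hj, pow_mul, ha, mul_inv_cancel])⟩
  convert k4 x hx _ k6 using 1
  rw [commutatorElement_def]
  group

/-- the transfer of an index along a correspondence -/
theorem exists_rel {Φ A B : Type} [Group Φ] [Group A] [Group B] (f : Φ →* A) (g : Φ →* B) (H : Subgroup A) :
    ∃ Δ ≤ g.range, Δ.relIndex g.range ∣ H.relIndex f.range ∧ ∀ w ∈ Δ, ∃ x, f x ∈ H ∧ g x = w :=
  ⟨(H.comap f).map g, map_le_range _ _, by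
    rw [← index_comap, ← index_comap]
    exact index_dvd_of_le (le_comap_map _ _), fun _ h => h⟩

/-- a complex character with the same fibres -/
theorem exists_char {k : Type} [Field k] {A : Type} [Group A] [Finite A] (f : A →* kˣ) :
    ∃ θ : A →* ℂˣ, ∀ y y', θ y = θ y' ↔ f y = f y' := by
  have : Finite f.range := Finite.of_surjective _ f.rangeRestrict_surjective
  have : NeZero (Nat.card f.range) := ⟨Nat.card_pos.ne'⟩
  let e := mulEquivOfCyclicCardEq (Complex.card_rootsOfUnity (Nat.card f.range)).symm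
  exact ⟨((rootsOfUnity _ ℂ).subtype.comp e.toMonoidHom).comp f.rangeRestrict, fun y y' =>
    ⟨fun h => congrArg Subtype.val (e.injective (Subtype.ext h)), fun h => congrArg (fun x => ((e x : rootsOfUnity _ ℂ) : ℂˣ))
      (Subtype.ext h)⟩⟩

end Cfsg.Agent.BZ.K3.Ga
end

-- part: BZ/L/K3/Gam
section
/-!
# BZ / L / K3 : from the output of the engine to the lattice and back (helper81)

* `Ga.Sd.Ph` : the pairs (element of `S`, its image in the Weyl group); `Ga.Sd.main`;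
* **`boxGam3`**, **`boxGam`**.
-/

set_option autoImplicit false
set_option linter.unusedSectionVars false
set_option linter.style.haveILetI false
set_option maxHeartbeats 400000

namespace Cfsg.Agent.BZ.K3

open Cfsg Subgroup Cfsg.Agent.DL Cfsg.Agent.KM Cfsg.Agent.KM.Ht Cfsg.Agent.KM.Tor Matrix Cfsg.Agent.BZ.L
open Cfsg.Agent.BZ.L.F2 (Zs zs_T mem_zs zs_F zs_nor)

namespace Ga

variable {p : ℕ} [Fact p.Prime] {k : Type} [Field k] [CharP k p] {Y : Type} [Group Y] {N : Type} [Fintype N]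
  [DecidableEq N] {ρ : Y →* GL N k} {F : MulAut Y} {G : Subgroup Y} [IsAlgClosed k] {X : Datum p ρ F G}

theorem χ_Zc {t : Y} (ht : t ∈ Zc X {a | X.Rt a}) (β : X.I → ℤ) : X.χ β t = 1 := by
  rw [X.eq_sum_sr β]
  induction (Finset.univ : Finset X.I) using Finset.induction_on with
  | empty => exact X.χ_zero t
  | insert i s hi ih => rw [Finset.sum_insert hi, X.χ_add, ih, X.χ_zsmul, ht.2 _ (Tits.Roots.isRoot_sr _ _ i), _root_.one_zpow, mul_one]

namespace Sd

variable {m r n d : ℕ} {t u : ℤ} {A : Matrix X.R X.R ℤ} (h : Sd X m r n d t u A)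
include h

/-- the correspondence between `S` and the Weyl group -/
def Ph {S : Subgroup (GF (F ^ m) G)} (hS : S ≤ normalizer (Pt F G m r X.T : Set (GF (F ^ m) G))) : Subgroup (S × X.W) where
  carrier := {z | ∃ x ∈ X.cen (Zs X m r), X.Rp z.2 (x * z.1.1)}
  one_mem' := ⟨1, one_mem _, Nodes.Reps.rp_of_mem (mul_mem (one_mem _) (one_mem _))⟩
  mul_mem' := fun {a b} ⟨x, hx, a2⟩ ⟨x', hx', b2⟩ => ⟨_, mul_mem hx (h.conj_cen (hS a.1.2) hx'), by
    have := a2.mul b2
    rwa [show x * a.1.1 * (x' * b.1.1) = x * (a.1.1 * x' * (a.1.1 : Y)⁻¹) * (a.1.1 * b.1.1) by group] at this⟩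
  inv_mem' := fun {a} ⟨x, hx, a2⟩ => ⟨_, h.conj_cen (inv_mem (hS a.1.2)) (inv_mem hx), by
    have := a2.inv
    rwa [show (x * a.1.1)⁻¹ = (a.1.1 : Y)⁻¹ * x⁻¹ * (a.1.1 : Y)⁻¹⁻¹ * (a.1.1 : Y)⁻¹ by group] at this⟩

theorem main {l : ℕ} [hl : Fact l.Prime] (hd : orderOf (u : ZMod l) = d) [Finite (GF (F ^ m) G)] {Z D S : Subgroup (GF (F ^ m) G)}
    (hZ : ∀ z ∈ Z, (z : Y) ∈ Zc X {a | X.Rt a}) (o : Ou l Z D (Pt F G m r X.T) (Pt F G m l X.T) S)
    (w1 : normalizer (Pt F G m r X.T : Set (GF (F ^ m) G)) ⊓ centralizer (Pt F G m l X.T : Set (GF (F ^ m) G)) ≤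
      centralizer (Pt F G m r X.T : Set (GF (F ^ m) G))) :
    ∃ Γ, Gm X r m S Γ ∧ Lt X l d u A Γ ∧ (CA X l d A Γ ∨ CC X l d u A Γ → ⁅D, D⁆ ≤ Z) := by
  have R := o.res
  let f : h.Ph R.sp →* S := (MonoidHom.fst _ _).comp (h.Ph R.sp).subtype
  let g : h.Ph R.sp →* X.W := (MonoidHom.snd _ _).comp (h.Ph R.sp).subtype
  have q0 : ∀ y : Pt F G m l X.T, (y.1 : Y) ∈ Zs X m l := fun y => ⟨y, y.2, rfl⟩
  have q1 : Pt F G m l X.T ≤ centralizer (Pt F G m l X.T : Set (GF (F ^ m) G)) := fun _ hg _ ha =>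
    Subtype.ext (X.T_comm ((W1.mem_Pt X le_rfl).1 ha).1 ((W1.mem_Pt X le_rfl).1 hg).1)
  have rep := fun s : S => exists_rep (zs_T X) (zs_T X) s.1.2.1 (zs_nor X (R.sp s.2)) fun z => (zs_nor X (R.sq s.2) z).1
  have su : ∀ s : S, ∃ z, f z = s := fun s =>
    let ⟨x, hx, w, hw, _⟩ := rep s
    ⟨⟨(s, w), x, hx, hw⟩, rfl⟩
  have fr : f.range = ⊤ := MonoidHom.range_eq_top.2 su
  have tv : ∀ z, Tv X d A (g z) ↔ (f z).1 ∈ centralizer (Pt F G m r X.T : Set (GF (F ^ m) G)) := fun z =>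
    let ⟨_, hx, hw⟩ := z.2
    h.tv_iff (R.sp (f z).2) hx hw
  have pl : X.Sz (Zs X m r) ⊆ PL X d A := fun a ha => ⟨ha.1, fun y hy => h.den hy a ha⟩
  refine ⟨g.range, fun w => ⟨?_, fun ⟨s, hs, x, hx, hw⟩ => ⟨⟨(⟨s, hs⟩, w), x, hx, hw⟩, rfl⟩⟩, ⟨hd, ?_, fun β hβ => ?_⟩, ?_⟩
  · rintro ⟨⟨⟨s, w⟩, x, hx, hw⟩, rfl⟩
    exact ⟨s, s.2, x, hx, hw⟩
  · rintro _ ⟨⟨⟨s, w⟩, x, hx, hw⟩, rfl⟩
    exact h.st (R.sp s.2) hx hw
  · have b0 := fun x w hx hw => wt_fix (x := x) (w := w) (zs_T X) (zs_F X) hx hw fun a ha => hβ a (pl ha)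
    let φ : Pt F G m l X.T →* kˣ := MonoidHom.mk' (fun y => chr (X.wt β) (X.crd y.1)) fun a b => by
      rw [← map_mul, ← X.crd_mul (zs_T X (q0 a)) (zs_T X (q0 b))]
      rfl
    have b1 : ∀ z (y y' : Pt F G m l X.T), (y' : GF (F ^ m) G) = f z * y * (f z : GF (F ^ m) G)⁻¹ →
        φ y' = chr (X.wt β ᵥ* X.Wm (g z)) (X.crd y.1) := by
      rintro ⟨⟨s, w⟩, x, hx, hw⟩ y y' e
      obtain ⟨x', hx', w', hw', e'⟩ := rep s
      have b2 := hw.mul hw'.inv
      rw [_root_.mul_inv_rev, mul_assoc, mul_inv_cancel_left] at b2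
      have b3 := e' _ ((X.τ_crd (zs_T X (q0 y))).symm ▸ q0 y)
      rw [X.τ_crd (zs_T X (q0 y))] at b3
      show chr _ (X.crd y'.1) = chr (X.wt β ᵥ* X.Wm w) _
      rw [show (y'.1 : Y) = _ from (congrArg Subtype.val e).trans b3, X.crd_τ, chr_mon, ← inv_mul_cancel_right w w', mul_assoc w,
        ← mul_assoc w, X.Wm_mul, ← vecMul_vecMul, b0 _ _ (mul_mem hx (inv_mem hx')) b2]
    obtain ⟨θ, hθ⟩ := exists_char φ
    obtain ⟨H, e3, e4⟩ := F2.exists_stab R.sq θ
    have b4 := R.orb θ (fun z hz => by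
      rw [← map_one θ, hθ, map_one]
      exact Units.ext (χ_Zc (hZ z hz) β)) fun s hs y y' e => (hθ _ _).2 (by
        obtain ⟨z, e1⟩ := su ⟨s, hs.1⟩
        obtain ⟨x, hx, hw⟩ := z.2
        rw [b1 z y y' (by rw [e1]; exact e), show X.wt β ᵥ* X.Wm (g z) = _ from
          b0 _ _ (mul_mem hx (h.cen_le (show (f z).1 ∈ _ by rw [e1]; exact hs.2))) hw]
        rfl)
    obtain ⟨Δ, d1, d2, d3⟩ := exists_rel f g H
    rw [fr, relIndex_top_right, e3] at d2
    refine ⟨Δ, d1, fun e => b4 (e.trans d2), fun w hw => (h.md_iff hl.out).2 fun c hc => ?_⟩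
    obtain ⟨z, hz, rfl⟩ := d3 w hw
    obtain ⟨y, hy, e⟩ := hc
    have b5 := (b1 z ⟨y, hy⟩ ⟨_, (mem_normalizer_iff.1 (R.sq (f z).2) y).1 hy⟩ rfl).symm.trans ((hθ _ _).1 ((e4 _).1 hz ⟨y, hy⟩ _ rfl))
    rw [chr_sub, mul_inv_eq_one, ← X.crd_τ c, ← e]
    exact b5
  · rintro (⟨Δ, -, d1, d2⟩ | ⟨c1, _, ⟨z, rfl⟩, c2, c3⟩)
    · obtain ⟨Δ', -, d3, d4⟩ := exists_rel g f Δ
      rw [fr, relIndex_top_right] at d3
      refine comm_le q1 (le_of o fun e => d1 ((e.trans (index_dvd_of_le fun s hs => ?_)).trans d3))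
      obtain ⟨z, hz, rfl⟩ := d4 s hs
      exact (tv z).1 (d2 _ hz)
    · refine comm_of o q1 w1 (fun e he y hy => Subtype.ext (X.cen_le_centralizer (zs_T X)
        ((sup_le_sup_left (Nodes.BNOf.RGD.Sup_mono (S := X.Sz (Zs X m r)) (S' := X.Sz (Zs X m l)) fun b hb => ⟨hb.1, fun x hx => ?_⟩) _ :
          X.cen (Zs X m r) ≤ X.cen (Zs X m l)) (h.cen_le he)) _ ⟨y, hy, rfl⟩)) (f z).2 ?_ fun s hs ⟨j, hj⟩ => ?_
      · obtain ⟨c, rfl⟩ := (X.mem_T _).1 (zs_T X hx)
        rw [X.χ_τ, (h.md_iff hl.out).1 (c1 b (pl hb)) c hx, Units.val_one]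
      · rw [← map_pow] at c2
        exact (tv _).1 c2
      · obtain ⟨z', e⟩ := su ⟨s, hs⟩
        obtain ⟨i, hi⟩ := c3 _ ⟨z', rfl⟩ ⟨j, by rw [← map_pow, tv, map_pow, e]; exact hj⟩
        rw [← map_pow g, ← map_inv, ← map_mul, tv, map_mul, map_inv, map_pow, e] at hi
        exact ⟨i, hi⟩

end Sd

end Ga

open HZ.Gen in
/-- **[GAM]** -/
theorem boxGam3 : BoxGam3 := by
  intro p _ q d l n c hq
  haveI := Fact.mk hq.lp
  obtain ⟨f, f0, hf⟩ := hq.pq
  have h1 : l.Coprime q := hf ▸ ((Nat.coprime_primes hq.lp Fact.out).2 hq.ne).pow_right f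
  have h0 : 0 < d := by
    have h2 : q.Coprime (if l = 2 then 4 else l) := by
      split_ifs with e
      · exact (e ▸ h1.symm).pow_right 2
      · exact h1.symm
    haveI : NeZero (if l = 2 then 4 else l) := ⟨by have := hq.lp.pos; split_ifs <;> omega⟩
    rw [← hq.dl, ← ZMod.coe_unitOfCoprime q h2, orderOf_units]
    exact orderOf_pos _
  by_cases hn : n = 0
  · exact Lg.of_forall fun m _ r _ _ _ _ _ _ _ _ _ _ _ _ _ X hC => absurd hC.n0 (by omega)
  refine ((boxW1 p q d l n c hq).and (Lg.prime.and ((Lg.gt (n * d + c)).and (Lg.modEq (mul_ne_zero hn h0.ne'))))).mono ?_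
  rintro m ⟨w1, hm, m1, m2⟩ r hr k _ _ Y _ N _ _ ρ F G _ X hC _ n' N' α M hF hM e A Z D S a1 l2 - - rfl o
  haveI := Fact.mk hr.rp
  have m3 := hr.mr
  have q0 : (q : ℤ) ≠ 0 := by rw [hf]; exact_mod_cast (pow_pos (Fact.out : p.Prime).pos f).ne'
  obtain ⟨A', a3, a2⟩ := hC.lq 1
  rw [X.Wm_one, one_mul] at a3
  rw [Nat.cast_one, one_smul] at a2
  obtain rfl : A = A' := smul_right_injective _ q0 (a1.symm.trans a3)
  have od : orderOf ((((q : ℤ) ^ m : ℤ)) : ZMod r) = d := by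
    rw [Int.cast_pow, Int.cast_natCast, orderOf_pow' _ hm.ne_zero, hr.ord, Nat.gcd_eq_right (dvd_mul_left m d), Nat.mul_div_cancel _ hm.pos]
  have h : Ga.Sd X m r n d q ((q : ℤ) ^ m) A := ⟨hm.pos, h0, q0, a1,
    by rw [a1, smul_pow, pow_eq_pow_of_modEq (m2.of_mul_right d) a2, pow_one], a2, hr.rp, ?_,
    Nat.not_dvd_of_pos_of_lt (Nat.mul_pos hC.n0 h0) (by omega), Nat.not_dvd_of_pos_of_lt Nat.card_pos (by have := hC.w; omega), od⟩
  · have dl := hq.dl
    rw [if_neg l2] at dl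
    refine h.main (by
      rw [Int.cast_pow, Int.cast_natCast, pow_eq_pow_of_modEq (m2.of_mul_left n) (dl ▸ pow_orderOf_eq_one _), pow_one, dl])
      (fun z hz => ((W1.mem_Pt X (S := Zc X {a | X.Rt a}) fun _ e => e.1).1 hz).1) o
      fun g hg => w1 r hr X hC n' N' α M hF hM ⟨hg.1, fun y hy => hg.2 y ?_⟩
    exact (W1.mem_Pt X le_rfl).2 (((W1.mem_Pt X (Z0_le_T X _)).1 hy).imp_left (Z0_le_T X _ ·))
  · rintro rfl
    rw [hf, Int.cast_pow, Int.cast_natCast, Nat.cast_pow, ZMod.natCast_self, zero_pow f0.ne', zero_pow hm.ne_zero, orderOf_zero] at od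
    omega

end Cfsg.Agent.BZ.K3
end

-- part: BZ/L/K3/All
section
/-!
# BZ / L / K3 : the block theorem from the lattice lemma (helper81)
-/

set_option autoImplicit false

namespace Cfsg.Agent.BZ.K3

open Cfsg Cfsg.Lie Cfsg.Agent.Nodes.RGDChev

end Cfsg.Agent.BZ.K3
end

-- part: BZ/L/K3/All2
section
/-!
# BZ / L / K3 : the rows from the lattice lemmas (helper81)
-/

set_option autoImplicit false

namespace Cfsg.Agent.BZ.K3

open Cfsg Cfsg.Lie Cfsg.Agent.KM

theorem allF3_lat (La : Lats) : AllF3 := allF3_of L.boxTA boxGam3 Go.boxGe boxRho boxKb La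

theorem ex_lat (La : Lats) (h42 : ∀ (F : Type) [Field F] [Fintype F], Fintype.card F = 2 → RowP 3 ↥(chevF4.group F)) :
    Ex7 3 ∧ For RowP (AtP 5 CE8) :=
  have h := rows_of (allF3_lat La) h42
  ⟨⟨h.g2, h.f4, h.e6, h.e7, h.e8, h.te6, h.td4⟩, h.e85⟩

end Cfsg.Agent.BZ.K3
end

-- part: BZ/L/Ex/Pull
section
/-!
# BZ, exceptional groups at good primes: the geometry is pulled back along central extensions (helper99)
-/

set_option autoImplicit false

namespace Cfsg.Agent.BZ.Ex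

open Subgroup

namespace Pull

variable {K H : Type} [Group K] [Group H] {φ : K →* H} {s z : ℕ}

/-- an `s`-element -/
def SE (s : ℕ) (x : K) : Prop := ∃ j : ℕ, x ^ s ^ j = 1

/-- the kernel is central, of exponent prime to `s`, and the `s`-elements lie in the image -/
structure Cv (φ : K →* H) (s z : ℕ) : Prop where
  pr : s.Prime
  cop : s.Coprime z
  cen : φ.ker ≤ center K
  exp : ∀ x ∈ φ.ker, x ^ z = 1
  rng : ∀ (h : H) (j : ℕ), h ^ s ^ j = 1 → h ∈ φ.range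

theorem SE.conj {x : K} (h : SE s x) (g : K) : SE s (g * x * g⁻¹) :=
  let ⟨j, hj⟩ := h
  ⟨j, by rw [conj_pow, hj, mul_one, mul_inv_cancel]⟩

theorem SE.mul {x y : K} (hx : SE s x) (hy : SE s y) (h : x * y = y * x) : SE s (x * y) :=
  let ⟨i, hi⟩ := hx
  let ⟨j, hj⟩ := hy
  ⟨i + j, by rw [Commute.mul_pow h, pow_add, pow_mul, hi, one_pow, one_mul, mul_comm, pow_mul, hj, one_pow]⟩

theorem se_of_mem {D : Subgroup K} (hD : IsPGroup s D) {x : K} (hx : x ∈ D) : SE s x :=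
  let ⟨j, hj⟩ := hD ⟨x, hx⟩
  ⟨j, congrArg Subtype.val hj⟩

theorem Cv.uniq (c : Cv φ s z) {x y : K} (hx : SE s x) (hy : SE s y) (e : φ x = φ y) : x = y := by
  have h1 : y⁻¹ * x ∈ φ.ker := by rw [MonoidHom.mem_ker, map_mul, map_inv, e, inv_mul_cancel]
  obtain ⟨j, hj⟩ := SE.mul (x := y⁻¹) (y := x) (let ⟨j, hj⟩ := hy; ⟨j, by rw [inv_pow, hj, inv_one]⟩) hx (by
    have h2 := mem_center_iff.1 (c.cen h1) y
    rw [mul_inv_cancel_left] at h2
    rw [eq_mul_inv_iff_mul_eq, ← h2])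
  have h2 := pow_gcd_eq_one.2 ⟨hj, c.exp _ h1⟩
  rw [(c.cop.pow_left j).gcd_eq_one, pow_one] at h2
  exact (inv_mul_eq_one.1 h2).symm

theorem Cv.lift (c : Cv φ s z) {h : H} (hh : SE s h) : ∃ x, SE s x ∧ φ x = h := by
  obtain ⟨j, hj⟩ := hh
  obtain ⟨x, rfl⟩ := c.rng h j hj
  obtain ⟨m, hm⟩ := Nat.exists_eq_succ_of_ne_zero (Nat.totient_pos.2 (pow_pos c.pr.pos j)).ne'
  refine ⟨x ^ z ^ (s ^ j).totient, ⟨j, ?_⟩, ?_⟩
  · rw [← pow_mul, mul_comm, pow_mul, hm, pow_succ', pow_mul, c.exp _ (by rwa [MonoidHom.mem_ker, map_pow]), one_pow]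
  · rw [map_pow, pow_eq_pow_mod _ hj, Nat.ModEq.pow_totient (c.cop.pow_left j).symm, ← pow_eq_pow_mod _ hj, pow_one]

theorem Cv.comm (c : Cv φ s z) {x : K} (hx : SE s x) (g : K) : φ x * φ g = φ g * φ x ↔ x * g = g * x :=
  ⟨fun h => (mul_inv_eq_iff_eq_mul.1 (c.uniq (hx.conj g) hx (by rw [map_mul, map_mul, map_inv, ← h, mul_inv_cancel_right]))).symm,
    fun h => by rw [← map_mul, ← map_mul, h]⟩

/-- centralizers of sets of `s`-elements -/
theorem Cv.mem_cen (c : Cv φ s z) {R : Set H} (hR : ∀ y ∈ R, SE s y) (g : K) :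
    g ∈ centralizer {x | SE s x ∧ φ x ∈ R} ↔ φ g ∈ centralizer R := by
  refine ⟨fun h y hy => ?_, fun h x hx => (c.comm hx.1 g).1 (h _ hx.2)⟩
  obtain ⟨x, h1, rfl⟩ := c.lift (hR y hy)
  exact (c.comm h1 g).2 (h x ⟨h1, hy⟩)

theorem Cv.mem_cen_map (c : Cv φ s z) {P : Subgroup K} (hP : IsPGroup s P) (g : K) :
    g ∈ centralizer (P : Set K) ↔ φ g ∈ centralizer (P.map φ : Set H) := by
  refine ⟨?_, fun h x hx => (c.comm (se_of_mem hP hx) g).1 (h _ (mem_map_of_mem φ hx))⟩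
  rintro h _ ⟨x, hx, rfl⟩
  rw [← map_mul, ← map_mul, h x hx]

/-- the lift of an abelian subgroup -/
def Cv.hat (c : Cv φ s z) {Q : Subgroup H} (hQ : Q ≤ centralizer (Q : Set H)) : Subgroup K where
  carrier := {x | SE s x ∧ φ x ∈ Q}
  one_mem' := ⟨⟨0, one_pow _⟩, by rw [map_one]; exact one_mem _⟩
  mul_mem' := fun {x y} hx hy => ⟨hx.1.mul hy.1 ((c.comm hx.1 y).1 (hQ hy.2 _ hx.2)), by rw [map_mul]; exact mul_mem hx.2 hy.2⟩
  inv_mem' := fun {x} hx => ⟨let ⟨j, hj⟩ := hx.1; ⟨j, by rw [inv_pow, hj, inv_one]⟩, by rw [map_inv]; exact inv_mem hx.2⟩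

end Pull

open Pull

/-- **[Pull]** -/
theorem boxPull : BoxPull := by
  intro l r z K H _ _ _ φ hl hr h1 h2 h3 h4 h5 G
  have cl : Cv φ l z := ⟨hl, h1, h3, h4, fun h j e => h5 h j (.inl e)⟩
  have cr : Cv φ r z := ⟨hr, h2, h3, h4, fun h j e => h5 h j (.inr e)⟩
  refine ⟨fun D hD hn => ?_, fun P hP => ?_⟩
  · obtain ⟨_, ⟨u, hu, rfl⟩, ⟨_, ⟨x, hx, rfl⟩, h6⟩, R, h7, h8⟩ := G.el (D.map φ) (hD.map φ) fun h => hn fun x hx y hy =>
      (cl.comm (se_of_mem hD hx) y).1 (h _ (mem_map_of_mem φ hx) _ (mem_map_of_mem φ hy))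
    refine ⟨u, hu, ⟨x, hx, fun e => h6 (by rw [← map_mul, ← map_mul, e])⟩, {y | SE r y ∧ φ y ∈ R}, fun y hy => hy.1,
      fun g => ?_⟩
    rw [cr.mem_cen h7, ← h8, eq_comm, ← cl.comm (se_of_mem hD hu), eq_comm]
  · obtain ⟨Q, a1, a2, a3, a4, a5⟩ := G.er (P.map φ) (hP.map φ)
    have hQ : Q ≤ centralizer (Q : Set H) := a3 ▸ a2
    have hN : ∀ g ∈ normalizer (P : Set K), φ g ∈ normalizer (P.map φ : Set H) := fun g hg =>
      le_normalizer_map φ (mem_map_of_mem φ hg)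
    have hN' : normalizer (P : Set K) ≤ normalizer (cl.hat hQ : Set K) := fun g hg x => by
      have h6 := a4 (hN g hg) (φ x)
      rw [← map_inv, ← map_mul, ← map_mul] at h6
      refine ⟨fun h => ⟨h.1.conj g, h6.1 h.2⟩, fun h => ⟨?_, h6.2 h.2⟩⟩
      have h7 := h.1.conj g⁻¹
      rwa [inv_inv, ← mul_assoc, ← mul_assoc, inv_mul_cancel, one_mul, inv_mul_cancel_right] at h7
    refine ⟨cl.hat hQ, fun x => let ⟨j, hj⟩ := x.2.1; ⟨j, Subtype.ext hj⟩, fun x hx => (cr.mem_cen_map hP x).2 (a2 hx.2),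
      Subgroup.ext fun g => ?_, hN', fun n b1 b2 b3 => ?_⟩
    · rw [cr.mem_cen_map hP, ← a3]
      exact cl.mem_cen (fun y hy => se_of_mem a1 hy) g
    · obtain ⟨θ, hθ⟩ := a5 (φ n) (hN n b1) (fun h => b2 ((cr.mem_cen_map hP n).2 h))
        (by rw [← map_pow]; exact (cr.mem_cen_map hP _).1 b3)
      refine ⟨θ.comp ((φ.comp (cl.hat hQ).subtype).codRestrict Q fun x => x.2.2), fun g c1 c2 c3 => (cr.mem_cen_map hP g).2
        (hθ _ (hN g c1) (by rw [← map_pow]; exact (cr.mem_cen_map hP _).1 c2) fun y y' e => ?_)⟩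
      obtain ⟨x, h6, h7⟩ := cl.lift (se_of_mem a1 y.2)
      have h8 : x ∈ cl.hat hQ := ⟨h6, h7 ▸ y.2⟩
      have h9 := c3 ⟨x, h8⟩ ⟨_, (hN' c1 x).1 h8⟩ rfl
      refine Eq.trans (congrArg θ (Subtype.ext ?_)) (h9.trans (congrArg θ (Subtype.ext h7)))
      show (y' : H) = φ (g * x * g⁻¹)
      rw [e, map_mul, map_mul, map_inv, h7]

end Cfsg.Agent.BZ.Ex
end

-- part: BZ/L/Ex/Fin
section
/-! The exceptional rows for `l ≥ 5`, unconditional. -/

namespace Cfsg.Agent.BZ.Ex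

theorem good : Good := good_of boxLat boxAb (boxTop_of boxPull)

end Cfsg.Agent.BZ.Ex
end
end
end
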